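import Cfsg.Agent.Lib.Fus.NineClasses.Search

/-!
The search for nine classes, part three.
-/

set_option autoImplicit false

namespace Cfsg.Agent.Fus.Nine

set_option maxRecDepth 20000 in
theorem searchC : search excG 6000 7 [] 6 1 1 = true := by decide +kernel

end Cfsg.Agent.Fus.Nine
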