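import Cfsg.Agent.Lib.Fus.NineClasses.Search

/-!
The search for nine classes, the small orders.
-/

set_option autoImplicit false

namespace Cfsg.Agent.Fus.Nine

set_option maxRecDepth 20000 in
theorem searchSmall : ([60, 168, 360, 660, 2448, 3420, 4080, 5616].all fun N => fixedN (allowed N) excNone N 8 [] (divisorsFrom (minCn N) N) (N - 1)) = true := by decide +kernel

end Cfsg.Agent.Fus.Nine
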