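import Cfsg.Agent.Lib.Fus.NineClasses.Sound
import Cfsg.Agent.Lib.Fus.NineClasses.GenA
import Cfsg.Agent.Lib.Fus.NineClasses.GenB
import Cfsg.Agent.Lib.Fus.NineClasses.GenC
import Cfsg.Agent.Lib.Fus.NineClasses.SmallSearch

/-!
The searches applied to a profile.
-/

set_option autoImplicit false

namespace Cfsg.Agent.Fus.Nine

variable {N : ℕ} {L : List Cl}

/-- A profile in increasing order. -/
theorem Prof.exists_sorted (h : Prof N L) : ∃ M, L.Perm M ∧ Prof N M ∧ Sorted M := by
  let le : Cl → Cl → Bool := fun a b => decide (a.1 < b.1 ∨ (a.1 = b.1 ∧ a.2 ≤ b.2))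
  refine ⟨L.mergeSort le, (List.mergeSort_perm L le).symm, h.perm (List.mergeSort_perm L le).symm, ?_⟩
  refine (List.pairwise_mergeSort (le := le) ?_ ?_ L).imp fun {a b} hab => by simpa [le] using hab
  · intro a b c h1 h2
    simp only [le, decide_eq_true_eq] at h1 h2 ⊢
    omega
  · intro a b
    simp only [le, Bool.or_eq_true, decide_eq_true_eq]
    omega

theorem large_profile (h : Prof N L) (hN : 6000 ≤ N) (h5 : ∀ x ∈ L, 5 ≤ x.1) : excG N L = true := by
  obtain ⟨M, hp, hM, hs⟩ := h.exists_sorted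
  have h5' : ∀ c ∈ M.map Prod.fst, 5 ≤ c := fun c hc => by
    obtain ⟨x, hx, rfl⟩ := List.mem_map.1 hc
    exact h5 x (hp.mem_iff.2 hx)
  suffices key : excG N M = true by
    simp only [excG, Bool.and_eq_true, List.all_eq_true, List.any_eq_true] at key ⊢
    obtain ⟨⟨k1, k2⟩, x, hx, k3⟩ := key
    exact ⟨⟨k1, fun y hy => k2 y (hp.mem_iff.1 hy)⟩, x, hp.mem_iff.2 hx, k3⟩
  have hsum : 1 * (N / 1) = 1 + ((M.map Prod.fst).map (N / ·)).sum := by
    rw [one_mul, Nat.div_one, List.map_map]
    exact hM.sum.symm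
  have hlen : (M.map Prod.fst).length = 8 := by rw [List.length_map, hM.len]
  have hpw : (M.map Prod.fst).Pairwise (· ≤ ·) := List.pairwise_map.2 (hs.imp fun {a b} hab => by omega)
  rcases hL : M.map Prod.fst with _ | ⟨c₁, _ | ⟨c₂, rest⟩⟩
  · rw [hL] at hlen; simp at hlen
  · rw [hL] at hlen; simp at hlen
  rw [hL] at hlen hpw hsum h5'
  simp only [List.map_cons, List.sum_cons, one_mul, Nat.div_one] at hsum
  have hle := List.pairwise_cons.1 hpw
  have hle2 := List.pairwise_cons.1 hle.2
  simp only [List.length_cons] at hlen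
  have h51 : 5 ≤ c₁ := h5' c₁ (by simp)
  rcases eq_or_lt_of_le h51 with e | hlt
  · subst e
    obtain ⟨x, hx, hx1⟩ := List.mem_map.1 (show 5 ∈ M.map Prod.fst by rw [hL]; simp)
    obtain ⟨k, hk⟩ : 5 ∣ N := hx1 ▸ (hM.basic x hx).1
    have hk5 : N / 5 = k := by rw [hk]; simp
    rw [hk5] at hsum
    rcases eq_or_lt_of_le (hle.1 c₂ (by simp)) with e | hlt
    · subst e
      rw [hk5] at hsum
      exact search_sound hM hs hN 5 [5, 5] 5 3 5 rest searchA (by rw [hL]; simp) (by omega)
        hle2.1 ⟨k, hk⟩ (by rw [hk5]; omega)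
    · refine search_sound hM hs hN 6 [5] 6 4 5 (c₂ :: rest) searchB (by rw [hL]; simp)
        (by simp only [List.length_cons]; omega) ?_ ⟨k, hk⟩
        (by rw [hk5, List.map_cons, List.sum_cons]; omega)
      intro c hc
      rcases List.mem_cons.1 hc with rfl | hc
      · exact hlt
      · have := hle2.1 c hc; omega
  · refine search_sound hM hs hN 7 [] 6 1 1 (c₁ :: c₂ :: rest) searchC (by rw [hL]; simp)
      (by simp only [List.length_cons]; omega) ?_ (one_dvd N)
      (by simp only [List.map_cons, List.sum_cons, one_mul, Nat.div_one]; omega)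
    intro c hc
    rcases List.mem_cons.1 hc with rfl | hc
    · exact hlt
    · have := hle.1 c hc; omega

theorem small_profile (h : Prof N L) (hN : N ∈ [60, 168, 360, 660, 2448, 3420, 4080, 5616])
    (hmin : ∀ x ∈ L, minCn N ≤ x.1) (hA : ∀ x ∈ L, allowed N x.2 = true) : False := by
  obtain ⟨M, hp, hM, hs⟩ := h.exists_sorted
  have hr := List.all_eq_true.1 searchSmall N hN
  have := fixedN_sound hM hs (fun x hx => hA x (hp.mem_iff.2 hx)) 8 [] _ _ (M.map Prod.fst) hr (by simp)
    (by rw [List.length_map, hM.len]) ?_ ?_ ?_ ?_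
  · simp [excNone] at this
  · exact List.Pairwise.filter _ (List.pairwise_lt_range' (s := minCn N) (n := N - minCn N))
  · intro c hc
    have h1 := (List.mem_range'_1.1 (List.mem_filter.1 hc).1).1
    have : 2 ≤ minCn N := by
      unfold minCn; cases Nat.blt N 500 <;> simp
    omega
  · intro c hc
    obtain ⟨x, hx, rfl⟩ := List.mem_map.1 hc
    obtain ⟨hd, -, -, hlt⟩ := hM.basic x hx
    have h1 := hmin x (hp.mem_iff.2 hx)
    exact List.mem_filter.2 ⟨List.mem_range'_1.2 ⟨h1, by omega⟩, by simpa using Nat.mod_eq_zero_of_dvd hd⟩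
  · have h1 := hM.sum
    show N - 1 = _
    rw [List.map_map]
    simp only [Function.comp_def] at h1 ⊢
    exact (Nat.sub_eq_of_eq_add (h1.symm.trans (Nat.add_comm _ _)))

end Cfsg.Agent.Fus.Nine
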