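import Cfsg.Agent.Lib.Spor.PSLThreeFour
import Cfsg.Agent.Lib.Invol.Order10200960.ClassTools

/-!
In `PSL(3, 4)` an element of `2`-power order has a centralizer of order at least sixteen.
-/

set_option autoImplicit false
set_option linter.style.haveILetI false

namespace Cfsg.Agent.Fus.Nine

open Matrix Cfsg.Agent.Spor.SU32 Cfsg.Agent.Invol.M12Ord Cfsg.Agent.Spor.L34Elem

local notation "SL34" => Matrix.SpecialLinearGroup (Fin 3) F4
local notation "PSL34" => Matrix.ProjectiveSpecialLinearGroup (Fin 3) F4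

/-- The product of upper unitriangular matrices, in coordinates. -/
def umul (p q : F4 × F4 × F4) : F4 × F4 × F4 :=
  (p.1 + q.1, p.2.1 + q.2.1 + p.1 * q.2.2, p.2.2 + q.2.2)

/-- The upper unitriangular matrices. -/
def uMat (p : F4 × F4 × F4) : SL34 :=
  ⟨!![1, p.1, p.2.1; 0, 1, p.2.2; 0, 0, 1], by
    rw [Matrix.det_of_isUpperTriangular]
    · simp [Fin.prod_univ_three]
    · intro i j h; fin_cases i <;> fin_cases j <;> simp_all⟩

theorem uMat_mul (p q : F4 × F4 × F4) : uMat p * uMat q = uMat (umul p q) := by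
  apply Subtype.ext
  rw [Matrix.SpecialLinearGroup.coe_mul]
  ext i j
  fin_cases i <;> fin_cases j <;> simp [uMat, umul, Matrix.mul_apply, Fin.sum_univ_three] <;> ring

theorem commute_many : ∀ p : F4 × F4 × F4,
    16 ≤ (Finset.univ.filter fun q : F4 × F4 × F4 => umul p q = umul q p).card := by decide +kernel

theorem umul_inverse : ∀ p : F4 × F4 × F4, ∃ q, umul p q = (0, 0, 0) ∧ umul q p = (0, 0, 0) := by
  decide +kernel

theorem uMat_zero : uMat (0, 0, 0) = 1 := Subtype.ext (by
  ext i j; fin_cases i <;> fin_cases j <;> simp [uMat])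

theorem pi_uMat_inj : Function.Injective fun p => π (uMat p) := by
  intro p q h
  obtain ⟨p', hp1, hp2⟩ := umul_inverse p
  have hinv : (uMat p)⁻¹ = uMat p' := inv_eq_of_mul_eq_one_right (by rw [uMat_mul, hp1, uMat_zero])
  have hz : (uMat p)⁻¹ * uMat q ∈ Subgroup.center SL34 := QuotientGroup.eq.1 h
  rw [hinv, uMat_mul] at hz
  obtain ⟨c, -, hcs⟩ := center_scalar hz
  have h00 := congrFun (congrFun hcs 0) 0
  simp [uMat] at h00
  subst h00
  have h1 : uMat (umul p' q) = 1 := Subtype.ext (by rw [hcs, one_smul]; rfl)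
  rw [← uMat_mul, ← hinv, inv_mul_eq_one] at h1
  have e1 := congrFun (congrFun (congrArg Subtype.val h1) 0) 1
  have e2 := congrFun (congrFun (congrArg Subtype.val h1) 0) 2
  have e3 := congrFun (congrFun (congrArg Subtype.val h1) 1) 2
  simp [uMat] at e1 e2 e3
  exact Prod.ext e1 (Prod.ext e2 e3)

theorem cn_two_element {G : Type*} [Group G] [Finite G] (e : G ≃* PSL34) (hG : Nat.card G = 20160) {x : G} {k : ℕ}
    (hx : orderOf x = 2 ^ k) : 16 ≤ cn x := by
  classical
  haveI : Fact (Nat.Prime 2) := ⟨Nat.prime_two⟩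
  let f : F4 × F4 × F4 → G := fun p => e.symm (π (uMat p))
  have hf : Function.Injective f := fun p q h => pi_uMat_inj (e.symm.injective h)
  have hmul : ∀ p q, f p * f q = f (umul p q) := fun p q => by
    simp only [f, ← map_mul, uMat_mul]
  have hone : f (0, 0, 0) = 1 := by simp only [f, uMat_zero, map_one]
  let U : Subgroup G :=
    { carrier := Set.range f
      mul_mem' := by rintro _ _ ⟨p, rfl⟩ ⟨q, rfl⟩; exact ⟨umul p q, (hmul p q).symm⟩
      one_mem' := ⟨_, hone⟩
      inv_mem' := by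
        rintro _ ⟨p, rfl⟩
        obtain ⟨q, hq, -⟩ := umul_inverse p
        exact ⟨q, (inv_eq_of_mul_eq_one_right (by rw [hmul, hq, hone])).symm⟩ }
  have hU : Nat.card U = 2 ^ 6 := by
    rw [show Nat.card U = Nat.card (Set.range f) from rfl, Nat.card_range_of_injective hf]
    rw [Nat.card_eq_fintype_card]; decide +kernel
  have hidx : ¬ 2 ∣ U.index := by
    have := U.card_mul_index
    rw [hU, hG] at this
    omega
  obtain ⟨Q, hQ⟩ := (IsPGroup.of_card (n := k) (by rw [Nat.card_zpowers, hx]) :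
    IsPGroup 2 (Subgroup.zpowers x)).exists_le_sylow
  obtain ⟨c, hc⟩ := MulAction.exists_smul_eq G Q ((IsPGroup.of_card hU).toSylow hidx)
  have hmem : c * x * c⁻¹ ∈ U := by
    have : c * x * c⁻¹ ∈ ((c • Q : Sylow 2 G) : Subgroup G) := by
      rw [Sylow.coe_subgroup_smul]
      exact ⟨x, hQ (Subgroup.mem_zpowers x), rfl⟩
    rw [hc] at this
    exact this
  obtain ⟨p, hp⟩ : ∃ p, f p = c * x * c⁻¹ := hmem
  rw [cn_eq_of_isConj (_root_.isConj_iff.2 ⟨c, hp.symm⟩)]
  refine (commute_many p).trans ?_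
  have hle : (Finset.univ.filter fun q : F4 × F4 × F4 => umul p q = umul q p).card ≤
      Nat.card (Subgroup.centralizer ({f p} : Set G)) := by
    rw [← Fintype.card_coe, ← Nat.card_eq_fintype_card]
    refine Nat.card_le_card_of_injective (fun q => ⟨f q.1, Subgroup.mem_centralizer_singleton_iff.2 ?_⟩)
      fun a b hab => Subtype.ext (hf (congrArg Subtype.val hab))
    rw [hmul, hmul, (Finset.mem_filter.1 q.2).2]
  exact hle

end Cfsg.Agent.Fus.Nine
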