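import Cfsg.Agent.Lib.Fus.NineClasses.Profile
import Cfsg.Agent.Lib.Fus.NineClasses.Combine
import Cfsg.Agent.Lib.Fus.NineClasses.PSLFour
import Cfsg.Agent.Lib.Block.DegGraphSmall.Layer
import Cfsg.Agent.Lib.Block.DegGraphSmall.Facts
import Cfsg.Agent.Lib.Block.Order168Classes
import Cfsg.Agent.Lib.Lie.Sz.LieEquiv
import Cfsg.Agent.Lib.Lie.Sz.Group
import Cfsg.Agent.S3280
import Cfsg.Agent.S2497
import Cfsg.Agent.S0243
import Cfsg.Agent.S0497

/-!
The simple groups with nine classes.
-/

set_option autoImplicit false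
set_option linter.style.haveILetI false

namespace Cfsg.Agent.Fus.Nine

open Cfsg Cfsg.Agent.Invol.M12Ord

universe u

variable {G : Type u} [Group G] [Finite G]

theorem card_psl_two {F : Type} [Field F] [Fintype F] {n : ℕ}
    (h : n * (Nat.gcd 2 (Fintype.card F - 1) * (Fintype.card F - 1)) =
      (Fintype.card F ^ 2 - 1) * (Fintype.card F ^ 2 - Fintype.card F)) :
    Nat.card (Matrix.ProjectiveSpecialLinearGroup (Fin 2) F) = n := by
  have h2 := Cfsg.Agent.S0243.result (F := F) rfl 2 le_rfl
  simp only [Fin.prod_univ_two, Fin.val_zero, Fin.val_one, pow_zero, pow_one] at h2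
  rw [← h, ← mul_assoc, mul_comm n] at h2
  have hq : 2 ≤ Fintype.card F := Fintype.one_lt_card
  exact Nat.eq_of_mul_eq_mul_left
    (Nat.mul_pos (Nat.gcd_pos_of_pos_left _ (by norm_num)) (by omega)) h2

theorem card_alt (n : ℕ) (hn : 2 ≤ n) : 2 * Nat.card (alternatingGroup (Fin n)) = n.factorial := by
  haveI : Nontrivial (Fin n) := Fin.nontrivial_iff_two_le.2 hn
  rw [two_mul_nat_card_alternatingGroup, Nat.card_eq_fintype_card, Fintype.card_perm, Fintype.card_fin]

theorem alt_six_orders : ∀ g : alternatingGroup (Fin 6), g ^ 3 = 1 ∨ g ^ 4 = 1 ∨ g ^ 5 = 1 := by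
  decide +kernel

variable [IsSimpleGroup G]

theorem five_le_cn (hna : ¬ IsMulCommutative G)
    (hN : Nat.card G ∉ [60, 168, 360, 2520]) (g : G) : 5 ≤ cn g := by
  have hc : ¬ IsCyclic G := fun h => hna ⟨⟨fun a b => by
    obtain ⟨c, hc⟩ := h.exists_generator
    obtain ⟨i, rfl⟩ := hc a
    obtain ⟨j, rfl⟩ := hc b
    exact zpow_mul_comm c i j⟩⟩
  by_contra hlt
  simp only [List.mem_cons, List.not_mem_nil, or_false, not_or] at hN
  have h5 := card_alt 5 (by norm_num)
  have h6 := card_alt 6 (by norm_num)
  have h7 := card_alt 7 (by norm_num)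
  rw [show Nat.factorial 5 = 120 from rfl] at h5
  rw [show Nat.factorial 6 = 720 from rfl] at h6
  rw [show Nat.factorial 7 = 5040 from rfl] at h7
  rcases Cfsg.Agent.S3280.result hc g (show cn g ≤ 4 by omega) with ⟨⟨e⟩⟩ | ⟨⟨e⟩⟩ | ⟨⟨e⟩⟩ | ⟨F, _, _, hF, ⟨e⟩⟩
  · have := Nat.card_congr e.toEquiv; omega
  · have := Nat.card_congr e.toEquiv; omega
  · have := Nat.card_congr e.toEquiv; omega
  · have := (Nat.card_congr e.toEquiv).trans (card_psl_two (n := 168) (by rw [hF]; decide))
    omega

theorem no_small (hna : ¬ IsMulCommutative G) {L : List Cl} (hP : Prof (Nat.card G) L)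
    (hmem : ∀ x ∈ L, ∃ g : G, dat g = x)
    (hN : Nat.card G ∈ [60, 168, 360, 660, 2448, 3420, 4080, 5616]) : False := by
  refine small_profile hP hN (fun x hx => ?_) fun x hx => ?_
  · unfold minCn
    by_cases h5 : Nat.card G < 500
    · rw [blt_true h5, cond_true]
      exact hP.two_le hx
    · rw [blt_false (not_lt.1 h5), cond_false]
      obtain ⟨g, rfl⟩ := hmem x hx
      refine five_le_cn hna ?_ g
      simp only [List.mem_cons, List.not_mem_nil, or_false, not_or] at hN ⊢
      omega
  · obtain ⟨g, rfl⟩ := hmem x hx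
    have ho := (hP.basic _ hx).2.2.1
    change 1 < orderOf g at ho
    show allowed _ (orderOf g) = true
    unfold allowed
    by_cases h168 : Nat.card G = 168
    · rw [h168]
      rcases Cfsg.Agent.Block.o168_orders h168 g with e | e | e | e | e <;> simp [e] at ho ⊢
    · rw [show (Nat.card G == 168) = false by simpa using h168, cond_false]
      by_cases h360 : Nat.card G = 360
      · rw [h360]
        obtain ⟨e⟩ := Cfsg.Agent.S0497.result h360
        have h2 : g ^ 3 = 1 ∨ g ^ 4 = 1 ∨ g ^ 5 = 1 := by
          rcases alt_six_orders (e g) with h | h | h <;> rw [← map_pow, ← map_one e] at h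
          · exact Or.inl (e.injective h)
          · exact Or.inr (Or.inl (e.injective h))
          · exact Or.inr (Or.inr (e.injective h))
        rcases h2 with h | h | h
        all_goals
          have h1 := orderOf_dvd_of_pow_eq_one h
          have h3 := Nat.le_of_dvd (by norm_num) h1
          interval_cases hg : orderOf g <;> simp_all
      · rw [show (Nat.card G == 360) = false by simpa using h360, cond_false]

theorem nine_classes (hna : ¬ IsMulCommutative G) (h9 : Nat.card (ConjClasses G) = 9) :
    (∃ (F : Type) (_ : Field F) (_ : Fintype F), Fintype.card F = 8 ∧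
        Nonempty (G ≃* Matrix.ProjectiveSpecialLinearGroup (Fin 2) F)) ∨
      Nonempty (G ≃* Matrix.ProjectiveSpecialLinearGroup (Fin 2) (ZMod 13)) ∨
      Nonempty (G ≃* ↥(alternatingGroup (Fin 7))) := by
  classical
  obtain ⟨R, hR⟩ := exists_reps (G := G)
  have hP := prof_of_reps hna h9 hR
  have hmem : ∀ x ∈ R.map dat, ∃ g : G, dat g = x := fun x hx => by
    obtain ⟨r, -, e⟩ := List.mem_map.1 hx
    exact ⟨r, e⟩
  rcases lt_or_ge (Nat.card G) 6000 with hlt | hge
  · by_cases h504 : Nat.card G = 504
    · haveI := Fintype.ofFinite (GaloisField 2 3)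
      haveI : Fact (Nat.Prime 2) := ⟨Nat.prime_two⟩
      exact Or.inl ⟨GaloisField 2 3, inferInstance, inferInstance,
        by rw [← Nat.card_eq_fintype_card, GaloisField.card 2 3 (by norm_num)]; norm_num,
        Block.DGS.iso_psl_eight h504⟩
    by_cases h1092 : Nat.card G = 1092
    · haveI : Fact (Nat.Prime 13) := ⟨by norm_num⟩
      exact Or.inr (Or.inl (Block.DGS.iso_psl_prime (by norm_num) (by rw [h1092]; norm_num)))
    by_cases h2520 : Nat.card G = 2520
    · refine Or.inr (Or.inr ?_)
      haveI : IsSimpleGroup (alternatingGroup (Fin 7)) := alternatingGroup.isSimpleGroup (by rw [Nat.card_fin]; norm_num)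
      have h7 : Nat.card (alternatingGroup (Fin 7)) = 2520 := by
        have := card_alt 7 (by norm_num)
        rw [show Nat.factorial 7 = 5040 from rfl] at this
        omega
      exact Block.DGS.iso_of_orders (S := alternatingGroup (Fin 7)) (by rw [h7]; decide) (by rw [h7, h2520])
    refine (no_small hna hP hmem ?_).elim
    have := Block.DGS.simple_orders hna hlt
    simp only [Block.DGS.orders, List.mem_cons, List.not_mem_nil, or_false] at this ⊢
    omega
  · exfalso
    have h5 : ∀ g : G, 5 ≤ cn g := fun g => five_le_cn hna (by simp; omega) g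
    have hexc := large_profile hP hge fun x hx => by
      obtain ⟨g, rfl⟩ := hmem x hx
      exact h5 g
    simp only [excG, Bool.and_eq_true, List.all_eq_true, List.any_eq_true, beq_iff_eq, List.contains_iff_mem] at hexc
    obtain ⟨⟨hN, hords⟩, x, hx, hx8⟩ := hexc
    obtain ⟨g, rfl⟩ := hmem x hx
    have hpp : ∀ a : G, a ≠ 1 → IsPrimePow (orderOf a) := fun a ha => by
      have := hords _ (hR.mem_dat ha)
      change orderOf a ∈ _ at this
      have p2 := Nat.prime_two.isPrimePow
      simp only [List.mem_cons, List.not_mem_nil, or_false] at this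
      rcases this with e | e | e | e | e | e <;> rw [e]
      exacts [p2, Nat.prime_three.isPrimePow, ⟨2, 2, Nat.prime_two.prime, by norm_num, rfl⟩, Nat.prime_five.isPrimePow,
        (by norm_num : Nat.Prime 7).isPrimePow, ⟨2, 3, Nat.prime_two.prime, by norm_num, rfl⟩]
    rcases Cfsg.Agent.S2497.result hna hpp with ⟨⟨e⟩⟩ | ⟨F, _, _, hF, ⟨e⟩⟩ | ⟨F, _, _, hF, ⟨e⟩⟩ |
      ⟨F, _, _, ⟨hF, ⟨e⟩⟩ | ⟨hF, ⟨e⟩⟩⟩
    · have h6 := card_alt 6 (by norm_num)
      rw [show Nat.factorial 6 = 720 from rfl] at h6
      have := Nat.card_congr e.toEquiv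
      omega
    · have hc := Nat.card_congr e.toEquiv
      simp only [Finset.mem_insert, Finset.mem_singleton] at hF
      rcases hF with hF | hF | hF | hF
      · rw [card_psl_two (n := 60) (by rw [hF]; decide)] at hc; omega
      · rw [card_psl_two (n := 168) (by rw [hF]; decide)] at hc; omega
      · rw [card_psl_two (n := 504) (by rw [hF]; decide)] at hc; omega
      · rw [card_psl_two (n := 2448) (by rw [hF]; decide)] at hc; omega
    · obtain ⟨e'⟩ := Spor.L34Elem.model hF
      have hod : orderOf g ∣ 2 ^ 3 := by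
        have := dvd_cn_self g
        rw [show cn g = 8 from hx8] at this
        simpa using this
      obtain ⟨k, -, hk⟩ := (Nat.dvd_prime_pow Nat.prime_two).1 hod
      have h16 := cn_two_element (e.trans e') hN hk
      have h8 : cn g = 8 := hx8
      omega
    · have hS : Suz.SzField F 1 := ⟨le_rfl, by rw [hF]; rfl⟩
      have hc := Nat.card_congr (e.trans (Suz.szEquiv hS).symm).toEquiv
      rw [Suz.card_Sz hS] at hc
      norm_num at hc
      omega
    · have hS : Suz.SzField F 2 := ⟨by norm_num, by rw [hF]; rfl⟩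
      have hc := Nat.card_congr (e.trans (Suz.szEquiv hS).symm).toEquiv
      rw [Suz.card_Sz hS] at hc
      norm_num at hc
      omega

end Cfsg.Agent.Fus.Nine
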