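import Cfsg.Agent.Lib.Fus.NineClasses.Sound
import Cfsg.Agent.Lib.Grp.PowerCount
import Cfsg.Agent.Lib.Block.OrderPrime
import Cfsg.Agent.Lib.Invol.Order7920Nse
import Cfsg.Agent.Lib.Invol.Order10200960.Values
import Cfsg.Agent.Lib.Invol.ProperCore.Basic

/-!
The profile of a simple group with nine classes.
-/

set_option autoImplicit false
set_option linter.style.haveILetI false
set_option linter.unusedSectionVars false

namespace Cfsg.Agent.Fus.Nine

open Cfsg Cfsg.Agent.Block Cfsg.Agent.Char Cfsg.Agent.Invol.M12Ord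
open Cfsg.Agent.Invol.M23Ord (Sep conj_orderOf cn_dvd_pow)

universe u

variable {G : Type u} [Group G] [Finite G]

/-- Representatives of the non-identity classes. -/
structure Reps (R : List G) : Prop where
  len : R.length + 1 = Nat.card (ConjClasses G)
  sep : Sep R
  ne_one : ∀ r ∈ R, r ≠ 1
  cover : ∀ g : G, g ≠ 1 → ∃ r ∈ R, IsConj r g

theorem exists_reps : ∃ R : List G, Reps R := by
  classical
  haveI := Fintype.ofFinite (ConjClasses G)
  choose rep hrep using ConjClasses.mk_surjective (α := G)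
  set S := (Finset.univ : Finset (ConjClasses G)).erase (ConjClasses.mk 1)
  refine ⟨S.toList.map rep, ?_, ?_, ?_, ?_⟩
  · rw [List.length_map, Finset.length_toList, Finset.card_erase_of_mem (Finset.mem_univ _), Finset.card_univ,
      Nat.card_eq_fintype_card]
    have : 0 < Fintype.card (ConjClasses G) := Fintype.card_pos_iff.2 ⟨ConjClasses.mk 1⟩
    omega
  · refine List.pairwise_map.2 ((Finset.nodup_toList S).imp fun {a b} hne hc => hne ?_)
    rw [← hrep a, ← hrep b]
    exact ConjClasses.mk_eq_mk_iff_isConj.2 hc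
  · intro r hr e
    obtain ⟨c, hc, rfl⟩ := List.mem_map.1 hr
    rw [Finset.mem_toList, Finset.mem_erase] at hc
    exact hc.1 (by rw [← hrep c, e])
  · intro g hg
    refine ⟨rep (ConjClasses.mk g), List.mem_map.2 ⟨_, ?_, rfl⟩,
      ConjClasses.mk_eq_mk_iff_isConj.1 (hrep _)⟩
    rw [Finset.mem_toList, Finset.mem_erase]
    refine ⟨fun e => hg ?_, Finset.mem_univ _⟩
    exact isConj_one_right.1 (ConjClasses.mk_eq_mk_iff_isConj.1 e).symm

/-- The data of a class. -/
noncomputable def dat (g : G) : Cl := (cn g, orderOf g)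

theorem dat_eq_of_isConj {a b : G} (h : IsConj a b) : dat a = dat b :=
  Prod.ext (cn_eq_of_isConj h) (conj_orderOf h)

variable {R : List G}

theorem Reps.mem_dat (hR : Reps R) {g : G} (hg : g ≠ 1) : dat g ∈ R.map dat := by
  obtain ⟨r, hr, hc⟩ := hR.cover g hg
  exact List.mem_map.2 ⟨r, hr, dat_eq_of_isConj hc⟩

/-- Counting by classes. -/
theorem Reps.count (hR : Reps R) (P : ℕ → Bool) :
    {g : G | P (orderOf g) = true}.ncard =
      (bif P 1 then 1 else 0) + ((R.map dat).map fun x => bif P x.2 then Nat.card G / x.1 else 0).sum := by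
  classical
  haveI := Fintype.ofFinite G
  have hsep : Sep (1 :: R) := List.pairwise_cons.2
    ⟨fun r hr hc => hR.ne_one r hr (isConj_one_right.1 hc), hR.sep⟩
  have hone : Nat.card G / cn (1 : G) = 1 := by
    rw [show cn (1 : G) = Nat.card G by
      show Nat.card (Subgroup.centralizer ({1} : Set G)) = _
      rw [show Subgroup.centralizer ({1} : Set G) = ⊤ from
        eq_top_iff.2 fun g _ => Subgroup.mem_centralizer_singleton_iff.2 (by simp), Subgroup.card_top],
      Nat.div_self Nat.card_pos]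
  have h := Cfsg.Agent.Invol.M23Ord.sum_classes hsep (by simpa using hR.len)
    (fun g : G => if P (orderOf g) = true then (1 : ℂ) else 0)
    fun a b hab => by simp only [conj_orderOf hab]
  rw [Finset.sum_boole, List.map_cons, List.sum_cons, hone, orderOf_one] at h
  rw [← Nat.cast_inj (R := ℂ), ← Set.ncard_coe_finset, Finset.coe_filter] at *
  rw [show {g : G | P (orderOf g) = true} = {g | g ∈ (Finset.univ : Finset G) ∧ P (orderOf g) = true} by simp, h,
    Nat.cast_add, List.map_map, Nat.cast_list_sum, List.map_map]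
  congr 1
  · cases P 1 <;> simp
  · refine congrArg List.sum (List.map_congr_left fun r _ => ?_)
    cases hP : P (orderOf r) <;> simp [dat, hP]

theorem dvd_cn_self (g : G) : orderOf g ∣ cn g := orderOf_dvd_cn rfl

theorem cn_dvd_of_commute_pow {x : G} {w : G} {k j : ℕ} (h : (w ^ k) ^ j = x) : cn w ∣ cn x :=
  h ▸ (cn_dvd_pow w k).trans (cn_dvd_pow _ j)

/-- A nontrivial element of prime power order is centralized by a subgroup of order `p ^ 2`. -/
theorem sq_dvd_cn {p : ℕ} [hp : Fact p.Prime] (hd : p * p ∣ Nat.card G) {x : G} {k : ℕ}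
    (hx : orderOf x = p ^ k) (hx1 : x ≠ 1) : p * p ∣ cn x := by
  obtain ⟨P, hP⟩ := (IsPGroup.of_card (n := k) (by rw [Nat.card_zpowers, hx]) :
    IsPGroup p (Subgroup.zpowers x)).exists_le_sylow
  have hPc : p * p ∣ Nat.card (P : Subgroup G) := by
    rw [P.card_eq_multiplicity, ← sq]
    exact pow_dvd_pow p ((hp.out.pow_dvd_iff_le_factorization Nat.card_pos.ne').1 (by rw [sq]; exact hd))
  have hxP : x ∈ (P : Subgroup G) := hP (Subgroup.mem_zpowers x)
  set Z := Subgroup.center (P : Subgroup G) with hZ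
  by_cases hxZ : (⟨x, hxP⟩ : (P : Subgroup G)) ∈ Z
  · refine hPc.trans (Subgroup.card_dvd_of_le fun y hy => Subgroup.mem_centralizer_singleton_iff.2 ?_)
    exact congrArg Subtype.val (Subgroup.mem_center_iff.1 hxZ ⟨y, hy⟩)
  haveI : Nontrivial (P : Subgroup G) :=
    ⟨⟨⟨x, hxP⟩, 1, fun e => hx1 (congrArg Subtype.val e)⟩⟩
  haveI := P.isPGroup'.center_nontrivial
  set K := Z ⊔ Subgroup.zpowers (⟨x, hxP⟩ : (P : Subgroup G)) with hK
  have hlt : Nat.card Z < Nat.card K := by
    by_contra hc
    have e : Z = K := Subgroup.eq_of_le_of_card_ge le_sup_left (not_lt.1 hc)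
    exact hxZ (e ▸ le_sup_right (a := Z) (Subgroup.mem_zpowers _))
  have hpK : p * p ∣ Nat.card K := by
    obtain ⟨i, hi⟩ := (IsPGroup.iff_card.1 (P.isPGroup'.to_subgroup K))
    have h1 : 1 < Nat.card Z := Finite.one_lt_card
    obtain ⟨j, hj⟩ := (IsPGroup.iff_card.1 (P.isPGroup'.to_subgroup Z))
    rw [hi, hj] at hlt
    have hji : j < i := (Nat.pow_lt_pow_iff_right hp.out.one_lt).1 hlt
    have hj1 : 1 ≤ j := by
      rcases j with _ | j
      · rw [hj] at h1; simp at h1
      · omega
    rw [hi, ← sq]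
    exact pow_dvd_pow p (by omega)
  refine hpK.trans ?_
  rw [Nat.card_congr (K.equivMapOfInjective _ (P : Subgroup G).subtype_injective).toEquiv]
  refine Subgroup.card_dvd_of_le ?_
  rintro y ⟨u, hu, rfl⟩
  rw [Subgroup.mem_centralizer_singleton_iff]
  have hKle : K ≤ Subgroup.centralizer ({⟨x, hxP⟩} : Set (P : Subgroup G)) := sup_le
    (fun z hz => Subgroup.mem_centralizer_singleton_iff.2 (Subgroup.mem_center_iff.1 hz _).symm)
    (Subgroup.zpowers_le.2 (Subgroup.mem_centralizer_singleton_iff.2 rfl))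
  exact congrArg Subtype.val (Subgroup.mem_centralizer_singleton_iff.1 (hKle hu))

/-- An element of order `p` centralized by a whole Sylow subgroup. -/
theorem exists_full {p : ℕ} [hp : Fact p.Prime] (hd : p ∣ Nat.card G) :
    ∃ z : G, orderOf z = p ∧ ¬ p ∣ Nat.card G / cn z := by
  obtain ⟨P⟩ : Nonempty (Sylow p G) := inferInstance
  have hpP : p ∣ Nat.card (P : Subgroup G) := P.dvd_card_of_dvd_card hd
  haveI : Nontrivial (P : Subgroup G) := Finite.one_lt_card_iff_nontrivial.1
    (hp.out.one_lt.trans_le (Nat.le_of_dvd Nat.card_pos hpP))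
  haveI := P.isPGroup'.center_nontrivial
  obtain ⟨i, hi⟩ := IsPGroup.iff_card.1 (P.isPGroup'.to_subgroup (Subgroup.center (P : Subgroup G)))
  have hi0 : i ≠ 0 := fun e => by
    have : 1 < Nat.card (Subgroup.center (P : Subgroup G)) := Finite.one_lt_card
    rw [hi, e] at this
    simp at this
  obtain ⟨⟨⟨z, hz⟩, hzc⟩, hzo⟩ := exists_prime_orderOf_dvd_card'
    (G := Subgroup.center (P : Subgroup G)) p (hi ▸ dvd_pow_self p hi0)
  rw [Subgroup.orderOf_mk, Subgroup.orderOf_mk] at hzo
  refine ⟨z, hzo, fun hh => P.not_dvd_index (hh.trans ?_)⟩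
  have hle : (P : Subgroup G) ≤ Subgroup.centralizer ({z} : Set G) := fun y hy =>
    Subgroup.mem_centralizer_singleton_iff.2 (congrArg Subtype.val (Subgroup.mem_center_iff.1 hzc ⟨y, hy⟩))
  rw [show Nat.card G / cn z = (Subgroup.centralizer ({z} : Set G)).index from
    Nat.div_eq_of_eq_mul_left Nat.card_pos
      (Subgroup.index_mul_card (Subgroup.centralizer ({z} : Set G))).symm]
  exact Subgroup.index_dvd_of_le hle

variable [IsSimpleGroup G]

/-- The local facts at a prime dividing the order exactly once. -/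
theorem once_facts (hna : ¬ IsMulCommutative G) {p : ℕ} [hp : Fact p.Prime] (hd : p ∣ Nat.card G)
    (hd2 : ¬ p * p ∣ Nat.card G) {x : G} (hx : orderOf x = p) :
    (∀ y : G, orderOf y = p → cn y = cn x) ∧
      ∃ e np, 2 ≤ e ∧ e ∣ p - 1 ∧ cn x * e * np = Nat.card G ∧ np % p = 1 ∧ np ≠ 1 ∧
        {g : G | orderOf g = p}.ncard = np * (p - 1) := by
  obtain ⟨m, hm⟩ := hd
  have hpm : ¬ p ∣ m := fun h => hd2 (hm ▸ mul_dvd_mul_left p h)
  have key : ∀ (y : G), orderOf y = p → ∀ P : Sylow p G, ∃ z : G, IsConj y z ∧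
      Subgroup.centralizer ({z} : Set G) = Subgroup.centralizer ((P : Subgroup G) : Set G) := by
    intro y hy P
    obtain ⟨Q, hQ⟩ := (IsPGroup.of_card (n := 1) (by rw [Nat.card_zpowers, hy, pow_one]) :
      IsPGroup p (Subgroup.zpowers y)).exists_le_sylow
    obtain ⟨c, hc⟩ := MulAction.exists_smul_eq G Q P
    have hzP : c * y * c⁻¹ ∈ (P : Subgroup G) := by
      rw [← hc, Sylow.coe_subgroup_smul]
      exact ⟨y, hQ (Subgroup.mem_zpowers y), rfl⟩
    refine ⟨c * y * c⁻¹, _root_.isConj_iff.2 ⟨c, rfl⟩, ?_⟩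
    have hzo : orderOf (c * y * c⁻¹) = p := by rw [← MulAut.conj_apply, MulEquiv.orderOf_eq, hy]
    have hz : Subgroup.zpowers (c * y * c⁻¹) = (P : Subgroup G) :=
      Subgroup.eq_of_le_of_card_ge (Subgroup.zpowers_le.2 hzP) (by
        rw [OrdP.card_sylow_eq hm hpm P, Nat.card_zpowers, hzo])
    rw [← hz, Subgroup.zpowers_eq_closure, Subgroup.centralizer_closure]
  obtain ⟨P⟩ : Nonempty (Sylow p G) := inferInstance
  have hcn : ∀ y : G, orderOf y = p → cn y = Nat.card (Subgroup.centralizer ((P : Subgroup G) : Set G)) :=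
    fun y hy => by
      obtain ⟨z, hz, he⟩ := key y hy P
      rw [cn_eq_of_isConj hz]
      show Nat.card (Subgroup.centralizer ({z} : Set G)) = _
      rw [he]
  refine ⟨fun y hy => (hcn y hy).trans (hcn x hx).symm, ?_⟩
  obtain ⟨e, k, hk0, -, he, he1, hep, -, hprod⟩ := OrdP.exists_e hna hm hpm P
  refine ⟨e, p * k + 1, he1, hep, by rw [hcn x hx, hprod, hm], ?_, ?_, ?_⟩
  · rw [Nat.add_mod, Nat.mul_mod_right, zero_add, Nat.mod_mod, Nat.mod_eq_of_lt hp.out.one_lt]
  · have := Nat.mul_pos hp.out.pos hk0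
    omega
  · have hCN := Subgroup.centralizer_le_normalizer ((P : Subgroup G) : Set G)
    have hn : Nat.card (Sylow p G) = p * k + 1 := by
      have h1 := Subgroup.relIndex_mul_index hCN
      rw [he, ← (show Nat.card (Sylow p G) = (Subgroup.normalizer ((P : Subgroup G) : Set G)).index from P.card_eq_index_normalizer)] at h1
      have h2 := Subgroup.card_mul_index (Subgroup.centralizer ((P : Subgroup G) : Set G))
      rw [← h1, hm, ← hprod, mul_assoc] at h2
      exact Nat.eq_of_mul_eq_mul_left (show 0 < e by omega) (Nat.eq_of_mul_eq_mul_left Nat.card_pos h2)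
    rw [← hn, ← Nat.card_coe_set_eq]
    exact Invol.M11Ord.cnt_prime hm hpm

theorem prof_of_reps (hna : ¬ IsMulCommutative G) (h9 : Nat.card (ConjClasses G) = 9) (hR : Reps R) :
    Prof (Nat.card G) (R.map dat) := by
  classical
  haveI := Fintype.ofFinite G
  have hcenter : Subgroup.center G = ⊥ :=
    (inferInstance : (Subgroup.center G).Normal).eq_bot_or_eq_top.resolve_right fun e =>
      hna ⟨⟨fun a b => Subgroup.mem_center_iff.1 (e ▸ Subgroup.mem_top b) a⟩⟩
  have four : 4 ∣ Nat.card G := by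
    have h2 := Invol.ProperCore.even_card hna
    haveI : Fact (Nat.Prime 2) := ⟨Nat.prime_two⟩
    by_contra h4
    obtain ⟨z, hz, -⟩ := exists_full (p := 2) h2
    obtain ⟨-, e, np, he, hep, -⟩ := once_facts hna h2 h4 hz
    have := Nat.le_of_dvd (by norm_num) hep
    omega
  refine
    { len := ?len, sum := ?sum, basic := ?basic, four := four, inv := ?inv, full := ?full, psq := ?psq,
      once := ?once, pow := ?pow, mul := ?mul, inv_le := ?invle, frob := ?frob }
  case len => rw [List.length_map]; have := hR.len; omega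
  case sum =>
    have h := hR.count fun _ => true
    simp only [cond_true] at h
    rw [← h]
    simp [Set.ncard_univ]
  case basic =>
    rintro _ hx
    obtain ⟨r, hr, rfl⟩ := List.mem_map.1 hx
    refine ⟨cn_dvd_card r, dvd_cn_self r, ?_, lt_of_le_of_ne (Nat.le_of_dvd Nat.card_pos (cn_dvd_card r)) ?_⟩
    · have := orderOf_pos r
      have : orderOf r ≠ 1 := fun e => hR.ne_one r hr (orderOf_eq_one_iff.1 e)
      show 1 < orderOf r
      omega
    · intro e
      refine hR.ne_one r hr (Subgroup.mem_bot.1 (hcenter ▸ Subgroup.mem_center_iff.2 fun g => ?_))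
      have : Subgroup.centralizer ({r} : Set G) = ⊤ := Subgroup.eq_top_of_card_eq _ e
      exact Subgroup.mem_centralizer_singleton_iff.1 (this ▸ Subgroup.mem_top g)
  case inv =>
    rintro _ hx h2
    obtain ⟨r, hr, rfl⟩ := List.mem_map.1 hx
    haveI : Fact (Nat.Prime 2) := ⟨Nat.prime_two⟩
    exact sq_dvd_cn (p := 2) (k := 1) four (by rw [pow_one]; exact h2) (hR.ne_one r hr)
  case full =>
    intro p hp hd
    haveI := Fact.mk hp
    obtain ⟨z, hz, hzd⟩ := exists_full hd
    exact ⟨dat z, hR.mem_dat (ne_one_of_orderOf hz hp.ne_one), hz, hzd⟩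
  case psq =>
    rintro p k hp hd _ hx hk
    obtain ⟨r, hr, rfl⟩ := List.mem_map.1 hx
    haveI := Fact.mk hp
    exact sq_dvd_cn hd hk (hR.ne_one r hr)
  case once =>
    rintro p hp hd hd2 _ hx hx2
    obtain ⟨r, hr, rfl⟩ := List.mem_map.1 hx
    haveI := Fact.mk hp
    obtain ⟨hsame, e, np, he, hep, hN, hnp, hnp1, hcnt⟩ := once_facts hna hd hd2 hx2
    refine ⟨?_, e, np, he, ?_, hN, hnp, hnp1⟩
    · rintro _ hy
      obtain ⟨s, hs, rfl⟩ := List.mem_map.1 hy
      refine ⟨fun h => hsame s h, fun (h : p ∣ orderOf s) => ?_⟩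
      have hpow : orderOf (s ^ (orderOf s / p)) = p := by
        rw [orderOf_pow_of_dvd (Nat.div_pos (Nat.le_of_dvd (orderOf_pos s) h) hp.pos).ne'
          (Nat.div_dvd_of_dvd h), Nat.div_div_self h (orderOf_pos s).ne']
      exact (cn_dvd_pow s _).trans (dvd_of_eq (hsame _ hpow))
    · have h := hR.count fun o => o == p
      have e1 : {g : G | (orderOf g == p) = true} = {g : G | orderOf g = p} := by simp
      rw [e1, hcnt, show ((1 : ℕ) == p) = false by simpa using hp.ne_one.symm, cond_false, zero_add] at h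
      have e2 : ((R.map dat).map fun x => bif x.2 == p then Nat.card G / x.1 else 0).sum =
          (R.map dat).countP (fun y => y.2 == p) * (Nat.card G / cn r) := by
        clear h
        have hall : ∀ y ∈ R.map dat, y.2 = p → y.1 = cn r := fun y hy hy2 => by
          obtain ⟨s, -, rfl⟩ := List.mem_map.1 hy
          exact hsame s hy2
        generalize R.map dat = M at hall ⊢
        induction M with
        | nil => simp
        | cons y M ih =>
          rw [List.map_cons, List.sum_cons, List.countP_cons, ih fun z hz => hall z (by simp [hz])]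
          by_cases hy2 : y.2 = p
          · simp [hy2, hall y (by simp) hy2]; ring
          · rw [show (y.2 == p) = false by simpa using hy2]; simp
      rw [e2, ← hN, mul_assoc, Nat.mul_div_cancel_left _ (cn_pos r), ← mul_assoc] at h
      exact Nat.eq_of_mul_eq_mul_left (show 0 < np by
        rcases Nat.eq_zero_or_pos np with e0 | e0
        · rw [e0] at hnp; simp at hnp
        · exact e0) (by rw [h]; ring)
  case pow =>
    rintro _ hx p hp (hpd : _ ∣ _) (hne : _ ≠ _)
    obtain ⟨r, hr, rfl⟩ := List.mem_map.1 hx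
    change p ∣ orderOf r at hpd
    change orderOf r ≠ p at hne
    have ho : orderOf (r ^ p) = orderOf r / p := orderOf_pow_of_dvd hp.ne_zero hpd
    have h1 : r ^ p ≠ 1 := fun e => hne (((Nat.dvd_prime hp).1 (orderOf_dvd_of_pow_eq_one e)).resolve_left
      fun e1 => hR.ne_one r hr (orderOf_eq_one_iff.1 e1))
    exact ⟨dat (r ^ p), hR.mem_dat h1, ho, cn_dvd_pow r p⟩
  case mul =>
    rintro _ hx p hp hpd hnd
    obtain ⟨r, hr, rfl⟩ := List.mem_map.1 hx
    change p ∣ cn r at hpd
    change ¬ p ∣ orderOf r at hnd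
    haveI := Fact.mk hp
    obtain ⟨⟨z, hzc⟩, hzo⟩ := exists_prime_orderOf_dvd_card' (G := Subgroup.centralizer ({r} : Set G)) p hpd
    rw [Subgroup.orderOf_mk] at hzo
    have hc : Commute r z := (Subgroup.mem_centralizer_singleton_iff.1 hzc).symm
    have hco : (orderOf r).Coprime (orderOf z) := by
      rw [hzo]; exact (hp.coprime_iff_not_dvd.2 hnd).symm
    have ho : orderOf (r * z) = orderOf r * p := by rw [hc.orderOf_mul_eq_mul_orderOf_of_coprime hco, hzo]
    have h1 : r * z ≠ 1 := fun e => by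
      rw [e, orderOf_one] at ho
      nlinarith [orderOf_pos r, hp.two_le]
    obtain ⟨j, hj⟩ := exists_pow_eq_self_of_coprime (x := r) (n := p) (hp.coprime_iff_not_dvd.2 hnd)
    have hw : ((r * z) ^ p) ^ j = r := by
      rw [hc.mul_pow, orderOf_dvd_iff_pow_eq_one.1 (dvd_of_eq hzo), mul_one, hj]
    exact ⟨dat (r * z), hR.mem_dat h1, ho, cn_dvd_of_commute_pow hw⟩
  case invle =>
    have h := hR.count fun o => 2 % o == 0
    have hinv : ((R.map dat).map fun x => bif 2 % x.2 == 0 then Nat.card G / x.1 else 0).sum =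
        invCount (Nat.card G) (R.map dat) := by
      refine congrArg List.sum (List.map_congr_left fun x hx => ?_)
      obtain ⟨r, hr, rfl⟩ := List.mem_map.1 hx
      have h1 : orderOf r ≠ 1 := fun e => hR.ne_one r hr (orderOf_eq_one_iff.1 e)
      have h0 := orderOf_pos r
      congr 1
      rw [Bool.eq_iff_iff, beq_iff_eq, beq_iff_eq]
      constructor
      · intro e
        exact ((Nat.dvd_prime Nat.prime_two).1 (Nat.dvd_of_mod_eq_zero e)).resolve_left h1
      · intro e; rw [e]
    have hset : {g : G | (2 % orderOf g == 0) = true} = {g : G | g * g = 1} := by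
      ext g
      simp only [Set.mem_ofPred_eq, beq_iff_eq]
      rw [← Nat.dvd_iff_mod_eq_zero, orderOf_dvd_iff_pow_eq_one, sq]
    rw [hset, hinv, show ((2 % 1 : ℕ) == 0) = true from rfl, cond_true] at h
    have hs := sum_ind (G := G)
    have hbound : ({g : G | g * g = 1}.ncard : ℝ) ≤ ∑ χ : IrrCharacter G, (dg χ : ℝ) := by
      have := congrArg (fun z : ℂ => ‖z‖) hs
      simp only [Complex.norm_natCast] at this
      rw [← this]
      refine (norm_sum_le _ _).trans (Finset.sum_le_sum fun χ _ => ?_)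
      rw [norm_mul, Complex.norm_natCast]
      refine mul_le_of_le_one_right (Nat.cast_nonneg _) ?_
      rcases FS.ind_eq χ with ⟨e, -⟩ | ⟨e | e, -⟩ <;> simp [e]
    have hb : {g : G | g * g = 1}.ncard ≤ ∑ χ : IrrCharacter G, dg χ := by exact_mod_cast hbound
    have hcs := sq_sum_le_card_mul_sum_sq (s := (Finset.univ : Finset (IrrCharacter G))) (f := fun χ => dg χ)
    have hsq : ∑ χ : IrrCharacter G, dg χ ^ 2 = Nat.card G := by
      apply Nat.cast_injective (R := ℂ)
      push_cast
      rw [← sum_degree_sq (G := G)]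
      exact Finset.sum_congr rfl fun χ _ => by rw [value_one]
    rw [hsq, Finset.card_univ, ← Nat.card_eq_fintype_card, card_irrCharacter, h9] at hcs
    rw [add_comm (invCount _ _), ← h, ← sq]
    exact (Nat.pow_le_pow_left hb 2).trans hcs
  case frob =>
    intro d hd
    have h := hR.count fun o => d % o == 0
    have hset : {g : G | (d % orderOf g == 0) = true} = {g : G | g ^ d = 1} := by
      ext g
      simp only [Set.mem_ofPred_eq, beq_iff_eq]
      rw [← Nat.dvd_iff_mod_eq_zero, orderOf_dvd_iff_pow_eq_one]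
    rw [hset, show (d % 1 == 0) = true by simp [Nat.mod_one], cond_true] at h
    rw [solCount, ← h, ← Nat.card_coe_set_eq]
    exact Grp.PowCount.dvd_card_sol _ G rfl d hd

end Cfsg.Agent.Fus.Nine
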