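import Mathlib

/-!
The finite search for the class equations of simple groups with nine classes: definitions.
-/

set_option autoImplicit false

namespace Cfsg.Agent.Fus.Nine

/-- A class: the order of the centralizer and the order of the element. -/
abbrev Cl := ℕ × ℕ

/-- Continue with the value of a number. -/
def force (n : ℕ) (k : ℕ → Bool) : Bool :=
  match n with
  | 0 => k 0
  | m + 1 => k (m + 1)

/-- Continue with the values of a list. -/
def forceL : List ℕ → (List ℕ → Bool) → Bool
  | [], k => k []
  | x :: r, k => force x fun x' => forceL r fun r' => k (x' :: r')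

/-- Continue with the values of a list of lists. -/
def forceLL : List (ℕ × List ℕ) → (List (ℕ × List ℕ) → Bool) → Bool
  | [], k => k []
  | x :: r, k => force x.1 fun c => forceL x.2 fun os => forceLL r fun r' => k ((c, os) :: r')

/-- No divisor between `d` and the square root. -/
def noDiv (p : ℕ) : ℕ → ℕ → Bool
  | 0, _ => false
  | f + 1, d => force d fun d => bif Nat.blt p (d * d) then true
      else bif p % d == 0 then false else noDiv p f (d + 1)

/-- A primality test. -/
def primeB (p : ℕ) : Bool := Nat.ble 2 p && noDiv p p 2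

/-- Divide out a number. -/
def strip (d : ℕ) : ℕ → ℕ → ℕ
  | 0, n => n
  | f + 1, n => bif n % d == 0 then strip d f (n / d) else n

/-- Candidates for the prime divisors. -/
def pfac : ℕ → ℕ → ℕ → List ℕ
  | 0, _, n => [n]
  | f + 1, d, n => bif Nat.blt n (d * d) then (bif Nat.blt 1 n then [n] else [])
      else bif n % d == 0 then d :: pfac f (d + 1) (strip d 64 n) else pfac f (d + 1) n

/-- The part of a number at `p`. -/
def ppow (p : ℕ) : ℕ → ℕ → ℕ
  | 0, _ => 1
  | f + 1, n => bif n % p == 0 then p * ppow p f (n / p) else 1

/-- The divisors `> 1` found in pairs. -/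
def dvs (c : ℕ) : ℕ → ℕ → List ℕ
  | 0, _ => []
  | f + 1, d => bif Nat.blt c (d * d) then []
      else bif c % d == 0 then
        (bif Nat.blt 1 d then [d] else []) ++
          ((bif Nat.blt 1 (c / d) && (c / d != d) then [c / d] else []) ++ dvs c f (d + 1))
      else dvs c f (d + 1)

/-- May a class with centralizer order `v` follow the others? -/
def okPre (cs : List ℕ) (v : ℕ) : Bool :=
  (cs.all fun a => v % a != 0 || v == a || !primeB a) &&
    (!primeB v || (cs.all (fun a => a % v != 0 || a == v) && Nat.ble (2 * cs.countP (· == v) + 3) v))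

/-- Tests of a full assignment at a prime. -/
def chkPrime (N : ℕ) (L : List Cl) (p : ℕ) : Bool :=
  let cls := L.filter fun x => x.2 == p
  (cls.any fun x => (N / x.1) % p != 0) &&
    (bif N % (p * p) != 0 then
      cls.all (fun x => cls.all (fun y => y.1 == x.1) &&
        (let m := cls.length
         (p - 1) % m == 0 && Nat.ble 2 ((p - 1) / m) && N % (x.1 * ((p - 1) / m)) == 0 &&
          N / (x.1 * ((p - 1) / m)) % p == 1 && N / (x.1 * ((p - 1) / m)) != 1) &&
        L.all (fun y => y.2 % p != 0 || x.1 % y.1 == 0))
    else L.all fun x => ppow p 64 x.2 != x.2 || x.1 % (p * p) == 0)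

/-- Tests of a full assignment at a class and a prime. -/
def chkPair (L : List Cl) (p : ℕ) (x : Cl) : Bool :=
  (x.2 % p != 0 || x.2 == p || L.any fun y => y.2 == x.2 / p && y.1 % x.1 == 0) &&
    (x.1 % p != 0 || x.2 % p == 0 || L.any fun y => y.2 == x.2 * p && x.1 % y.1 == 0)

/-- The number of elements with `x ^ d = 1`. -/
def solCount (N : ℕ) (L : List Cl) (d : ℕ) : ℕ :=
  1 + (L.map fun x => bif d % x.2 == 0 then N / x.1 else 0).sum

/-- The number of involutions. -/
def invCount (N : ℕ) (L : List Cl) : ℕ :=
  (L.map fun x => bif x.2 == 2 then N / x.1 else 0).sum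

/-- Tests at the powers of a prime. -/
def chkFrob (N : ℕ) (L : List Cl) (p : ℕ) : ℕ → ℕ → Bool
  | 0, _ => true
  | f + 1, q => N % q != 0 || (solCount N L q % q == 0 && chkFrob N L p f (q * p))

/-- The tests of a full assignment. -/
def chk (N : ℕ) (P : List ℕ) (L : List Cl) : Bool :=
  (L.all fun x => x.2 != 2 || x.1 % 4 == 0) &&
    (P.all fun p => !primeB p || N % p != 0 || chkPrime N L p) &&
    (P.all fun p => !primeB p || L.all (chkPair L p)) &&
    Nat.ble ((invCount N L + 1) * (invCount N L + 1)) (9 * N) &&
    (P.all fun p => !primeB p || chkFrob N L p 40 p)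

/-- Can a class have element order `d`, given the centralizer orders of the others? -/
def okOpt (N : ℕ) (P : List ℕ) (others : List ℕ) (c d : ℕ) : Bool :=
  (d != 2 || c % 4 == 0) &&
    P.all fun p => !primeB p ||
      ((d % p != 0 || d == p || others.any fun a => a % c == 0 && a % (d / p) == 0) &&
        (c % p != 0 || d % p == 0 || others.any fun a => c % a == 0 && a % (d * p) == 0) &&
        (ppow p 64 d != d || N % (p * p) != 0 || c % (p * p) == 0))

/-- The possible element orders of the classes. -/
def options (A : ℕ → Bool) (N : ℕ) (P : List ℕ) (cs : List ℕ) : List (ℕ × List ℕ) :=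
  cs.map fun c => (c, (dvs c (c + 1) 1).filter fun d => A d && okOpt N P (cs.erase c) c d)

/-- The assignments of element orders. -/
def asg (leaf : List Cl → Bool) : List (ℕ × List ℕ) → List Cl → Bool
  | [], L => leaf L.reverse
  | x :: r, L => x.2.all fun o =>
      (match L with | [] => false | y :: _ => y.1 == x.1 && Nat.blt o y.2) || asg leaf r ((x.1, o) :: L)

/-- The cheap tests of the centralizer orders. -/
def gate (N : ℕ) (cs : List ℕ) : Bool :=
  N % 4 == 0 && cs.all (fun c => N % c == 0 && Nat.blt c N) &&
    cs.any (fun c => (N / c) % 2 != 0 && Nat.ble N (9 * (c * c))) &&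
    cs.all fun c => N % (c * c) != 0 || !primeB c

/-- The tests of the centralizer orders at the primes. -/
def gateP (N : ℕ) (cs : List ℕ) (p : ℕ) : Bool :=
  !primeB p || N % p != 0 ||
    (cs.any (fun c => c % p == 0 && (N / c) % p != 0) &&
      (N % (p * p) == 0 || cs.any fun c => c % p == 0 &&
        (List.range' 1 (cs.countP (· == c))).any fun m => (p - 1) % m == 0 && Nat.ble 2 ((p - 1) / m) &&
          N % (c * ((p - 1) / m)) == 0 && N / (c * ((p - 1) / m)) % p == 1 && N / (c * ((p - 1) / m)) != 1))

/-- Every assignment on these centralizer orders is excluded or exceptional. -/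
def phase2 (A : ℕ → Bool) (exc : ℕ → List Cl → Bool) (N : ℕ) (cs : List ℕ) : Bool :=
  !gate N cs || forceL (pfac 4000 2 N) fun P => !P.all (gateP N cs) ||
    forceLL (options A N P cs) fun O => asg (fun L => !chk N P L || exc N L) O []

/-- All numbers of an interval. -/
def loop (f : ℕ → Bool) : ℕ → ℕ → Bool
  | 0, _ => true
  | n + 1, v => force v fun v => f v && loop f n (v + 1)

/-- The generic search: one candidate size for the largest class. -/
def tryX (exc : ℕ → List Cl → Bool) (T : ℕ) (cs : List ℕ) (a l X : ℕ) : Bool :=
  (X + 1) % a != 0 || force (l * ((X + 1) / a)) fun N => Nat.blt N T || force (N / X) fun C =>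
    Nat.ble N C || Nat.blt C (cs.headD 0) || !okPre cs C || phase2 (fun _ => true) exc N (C :: cs).reverse

/-- The generic search: divisor pairs. -/
def divLoop (f : ℕ → Bool) (l : ℕ) : ℕ → ℕ → Bool
  | 0, _ => false
  | n + 1, d => force d fun d => bif Nat.blt l (d * d) then true
      else (l % d != 0 || (f d && (l / d == d || f (l / d)))) && divLoop f l n (d + 1)

/-- The bound for the next centralizer order. -/
def upper (T n a l : ℕ) : ℕ :=
  bif Nat.blt l (a * T) then min ((n + 3) * l / a) ((n + 2) * l * T / (a * T - l)) else (n + 3) * l / a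

/-- The generic search over nondecreasing centralizer orders. -/
def search (exc : ℕ → List Cl → Bool) (T : ℕ) : ℕ → List ℕ → ℕ → ℕ → ℕ → Bool
  | 0, cs, _, a, l => divLoop (tryX exc T cs a l) l (l + 1) 1
  | n + 1, cs, lo, a, l => force (upper T n a l) fun hi => loop (fun v =>
      Nat.ble (v * a) l || !okPre cs v || force (l * v / Nat.gcd l v) fun l' =>
        force (a * (l' / l) - l' / v) fun a' => search exc T n (v :: cs) v a' l') (hi + 1 - lo) lo

/-- The search for a fixed order. -/
def fixedN (A : ℕ → Bool) (exc : ℕ → List Cl → Bool) (N : ℕ) : ℕ → List ℕ → List ℕ → ℕ → Bool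
  | 0, cs, _, s => s != 0 || phase2 A exc N cs.reverse
  | r + 1, cs, D, s => go (fun c D' t => !okPre cs c || fixedN A exc N r (c :: cs) D' t) (r + 1) s D
where
  /-- Choose the next divisor. -/
  go (k : ℕ → List ℕ → ℕ → Bool) (r s : ℕ) : List ℕ → Bool
    | [] => true
    | c :: D => force (N / c) fun v =>
        Nat.blt (r * v) s || ((Nat.blt s v || force (s - v) fun t => k c (c :: D) t) && go k r s D)

/-- The profiles left over by the generic search: those of `PSL(3, 4)`. -/
def excG (N : ℕ) (L : List Cl) : Bool :=
  N == 20160 && L.all (fun x => [2, 3, 4, 5, 7, 8].contains x.2) && L.any (fun x => x.1 == 8)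

/-- Nothing is left over. -/
def excNone (_ : ℕ) (_ : List Cl) : Bool := false

/-- The possible centralizer orders. -/
def divisorsFrom (lo N : ℕ) : List ℕ := (List.range' lo (N - lo)).filter fun d => N % d == 0

/-- The possible element orders for the three smallest groups. -/
def allowed (N d : ℕ) : Bool :=
  bif N == 168 then [2, 3, 4, 7].contains d else bif N == 360 then [2, 3, 4, 5].contains d else true

/-- The least centralizer order. -/
def minCn (N : ℕ) : ℕ := bif Nat.blt N 500 then 2 else 5

end Cfsg.Agent.Fus.Nine
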