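import Cfsg.Agent.Lib.Fus.NineClasses.Search

/-!
The finite search for nine classes: what a successful search says about a profile.
-/

set_option autoImplicit false

namespace Cfsg.Agent.Fus.Nine

/-- The facts about the eight non-identity classes of a simple group with nine classes. -/
structure Prof (N : ℕ) (L : List Cl) : Prop where
  len : L.length = 8
  sum : 1 + (L.map fun x => N / x.1).sum = N
  basic : ∀ x ∈ L, x.1 ∣ N ∧ x.2 ∣ x.1 ∧ 1 < x.2 ∧ x.1 < N
  four : 4 ∣ N
  inv : ∀ x ∈ L, x.2 = 2 → 4 ∣ x.1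
  full : ∀ p, p.Prime → p ∣ N → ∃ x ∈ L, x.2 = p ∧ ¬ p ∣ N / x.1
  psq : ∀ p k, p.Prime → p * p ∣ N → ∀ x ∈ L, x.2 = p ^ k → p * p ∣ x.1
  once : ∀ p, p.Prime → p ∣ N → ¬ p * p ∣ N → ∀ x ∈ L, x.2 = p →
    (∀ y ∈ L, (y.2 = p → y.1 = x.1) ∧ (p ∣ y.2 → y.1 ∣ x.1)) ∧
      ∃ e np, 2 ≤ e ∧ L.countP (fun y => y.2 == p) * e = p - 1 ∧ x.1 * e * np = N ∧ np % p = 1 ∧ np ≠ 1
  pow : ∀ x ∈ L, ∀ p, p.Prime → p ∣ x.2 → x.2 ≠ p → ∃ y ∈ L, y.2 = x.2 / p ∧ x.1 ∣ y.1
  mul : ∀ x ∈ L, ∀ p, p.Prime → p ∣ x.1 → ¬ p ∣ x.2 → ∃ y ∈ L, y.2 = x.2 * p ∧ y.1 ∣ x.1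
  inv_le : (invCount N L + 1) * (invCount N L + 1) ≤ 9 * N
  frob : ∀ d, d ∣ N → d ∣ solCount N L d

theorem Prof.perm {N : ℕ} {L L' : List Cl} (h : Prof N L) (e : L.Perm L') : Prof N L' where
  len := e.length_eq ▸ h.len
  sum := by rw [← (e.map _).sum_eq]; exact h.sum
  basic x hx := h.basic x (e.mem_iff.2 hx)
  four := h.four
  inv x hx := h.inv x (e.mem_iff.2 hx)
  full p hp hd := by
    obtain ⟨x, hx, h1⟩ := h.full p hp hd
    exact ⟨x, e.mem_iff.1 hx, h1⟩
  psq p k hp hd x hx := h.psq p k hp hd x (e.mem_iff.2 hx)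
  once p hp hd hd2 x hx hx2 := by
    obtain ⟨h1, e', np, h2⟩ := h.once p hp hd hd2 x (e.mem_iff.2 hx) hx2
    exact ⟨fun y hy => h1 y (e.mem_iff.2 hy), e', np, by rw [← e.countP_eq]; exact h2⟩
  pow x hx p hp h1 h2 := by
    obtain ⟨y, hy, h3⟩ := h.pow x (e.mem_iff.2 hx) p hp h1 h2
    exact ⟨y, e.mem_iff.1 hy, h3⟩
  mul x hx p hp h1 h2 := by
    obtain ⟨y, hy, h3⟩ := h.mul x (e.mem_iff.2 hx) p hp h1 h2
    exact ⟨y, e.mem_iff.1 hy, h3⟩
  inv_le := by rw [invCount, ← (e.map _).sum_eq]; exact h.inv_le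
  frob d hd := by rw [solCount, ← (e.map _).sum_eq]; exact h.frob d hd

theorem blt_false {a b : ℕ} (h : b ≤ a) : Nat.blt a b = false :=
  Bool.eq_false_iff.2 fun e => by have := (Nat.blt_eq ▸ e : a < b); omega

theorem blt_true {a b : ℕ} (h : a < b) : Nat.blt a b = true := Nat.blt_eq.symm ▸ h

theorem ble_false {a b : ℕ} (h : b < a) : Nat.ble a b = false :=
  Bool.eq_false_iff.2 fun e => by have := Nat.le_of_ble_eq_true e; omega

theorem force_eq (n : ℕ) (k : ℕ → Bool) : force n k = k n := by cases n <;> rfl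

theorem forceL_eq : ∀ (l : List ℕ) (k : List ℕ → Bool), forceL l k = k l
  | [], _ => rfl
  | x :: r, k => by rw [forceL, force_eq, forceL_eq r]

theorem forceLL_eq : ∀ (l : List (ℕ × List ℕ)) (k : List (ℕ × List ℕ) → Bool), forceLL l k = k l
  | [], _ => rfl
  | x :: r, k => by rw [forceLL, force_eq, forceL_eq, forceLL_eq r]

theorem noDiv_sound (p : ℕ) : ∀ f s, noDiv p f s = true → ∀ d, s ≤ d → d * d ≤ p → ¬ d ∣ p
  | 0, s, h => by simp [noDiv] at h
  | f + 1, s, h => by
    intro d hd hdd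
    rw [noDiv, force_eq] at h
    by_cases hb : p < s * s
    · exact absurd hb (not_lt.2 ((Nat.mul_le_mul hd hd).trans hdd))
    · have e1 : Nat.blt p (s * s) = false := blt_false (not_lt.1 hb)
      rw [e1, cond_false] at h
      by_cases hs : p % s = 0
      · simp [hs] at h
      · rw [show (p % s == 0) = false by simpa using hs, cond_false] at h
        rcases eq_or_lt_of_le hd with rfl | hlt
        · exact fun hdv => hs (Nat.mod_eq_zero_of_dvd hdv)
        · exact noDiv_sound p f (s + 1) h d hlt hdd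

theorem primeB_sound {p : ℕ} (h : primeB p = true) : p.Prime := by
  simp only [primeB, Bool.and_eq_true, Nat.ble_eq] at h
  refine Nat.prime_def_le_sqrt.2 ⟨h.1, fun m hm hs hd => ?_⟩
  exact noDiv_sound p p 2 h.2 m hm (Nat.le_sqrt.1 hs) hd

theorem ppow_eq (p : ℕ) : ∀ f n, ∃ k, ppow p f n = p ^ k
  | 0, n => ⟨0, rfl⟩
  | f + 1, n => by
    rw [ppow]
    cases n % p == 0
    · exact ⟨0, rfl⟩
    · obtain ⟨k, hk⟩ := ppow_eq p f (n / p)
      exact ⟨k + 1, by rw [cond_true, hk, pow_succ']⟩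

theorem dvs_complete (c : ℕ) : ∀ f s, c < s + f → ∀ e, s ≤ e → e * e ≤ c → e ∣ c →
    (1 < e → e ∈ dvs c f s) ∧ (1 < c / e → c / e ∈ dvs c f s)
  | 0, s, h, e, hse, hee, hd => by
    have := Nat.le_mul_self e
    omega
  | f + 1, s, h, e, hse, hee, hd => by
    rw [dvs]
    have e1 : Nat.blt c (s * s) = false := blt_false ((Nat.mul_le_mul hse hse).trans hee)
    rw [e1, cond_false]
    rcases eq_or_lt_of_le hse with rfl | hlt
    · rw [show (c % s == 0) = true by simpa using Nat.mod_eq_zero_of_dvd hd, cond_true]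
      refine ⟨fun h1 => ?_, fun h1 => ?_⟩
      · simp [blt_true h1]
      · by_cases hcs : c / s = s
        · rw [hcs] at h1 ⊢
          simp [blt_true h1]
        · refine List.mem_append_right _ (List.mem_append_left _ ?_)
          rw [blt_true h1,
            show (c / s != s) = true by simpa using hcs]
          simp
    · obtain ⟨h1, h2⟩ := dvs_complete c f (s + 1) (by omega) e hlt hee hd
      cases c % s == 0
      · exact ⟨h1, h2⟩
      · exact ⟨fun hh => List.mem_append_right _ (List.mem_append_right _ (h1 hh)),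
          fun hh => List.mem_append_right _ (List.mem_append_right _ (h2 hh))⟩

theorem mem_dvs {c d : ℕ} (hc : 0 < c) (hd : d ∣ c) (hd1 : 1 < d) : d ∈ dvs c (c + 1) 1 := by
  by_cases h : d * d ≤ c
  · exact (dvs_complete c (c + 1) 1 (by omega) d hd1.le h hd).1 hd1
  · have hcd : c / d * d = c := Nat.div_mul_cancel hd
    have hpos : 1 ≤ c / d := by
      rcases Nat.eq_zero_or_pos (c / d) with h0 | h0
      · rw [h0, zero_mul] at hcd; omega
      · exact h0
    have hle : c / d * (c / d) ≤ c := by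
      have h3 : c / d ≤ d := by nlinarith
      calc c / d * (c / d) ≤ c / d * d := Nat.mul_le_mul le_rfl h3
        _ = c := hcd
    have h2 := (dvs_complete c (c + 1) 1 (by omega) (c / d) hpos hle (Nat.div_dvd_of_dvd hd)).2
    rw [Nat.div_div_self hd (by omega)] at h2
    exact h2 hd1

variable {N : ℕ} {L : List Cl}

theorem Prof.pos (h : Prof N L) : 0 < N := by
  have := h.sum
  omega

theorem Prof.c_pos (h : Prof N L) {x : Cl} (hx : x ∈ L) : 0 < x.1 :=
  Nat.pos_of_dvd_of_pos (h.basic x hx).1 h.pos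

theorem Prof.two_le (h : Prof N L) {x : Cl} (hx : x ∈ L) : 2 ≤ x.1 :=
  (h.basic x hx).2.2.1.trans_le (Nat.le_of_dvd (h.c_pos hx) (h.basic x hx).2.1)

/-- A prime centralizer order. -/
theorem Prof.prime_cn (h : Prof N L) {x : Cl} (hx : x ∈ L) (hp : x.1.Prime) :
    x.2 = x.1 ∧ ¬ x.1 * x.1 ∣ N ∧ (∀ y ∈ L, x.1 ∣ y.1 → y.1 = x.1) ∧
      2 * L.countP (fun y => y.1 == x.1) + 1 ≤ x.1 := by
  obtain ⟨hcN, hoc, ho, -⟩ := h.basic x hx
  have hox : x.2 = x.1 := ((Nat.dvd_prime hp).1 hoc).resolve_left (by omega)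
  have hsq : ¬ x.1 * x.1 ∣ N := fun hd => by
    have := Nat.le_of_dvd hp.pos (h.psq x.1 1 hp hd x hx (by rw [pow_one]; exact hox))
    nlinarith [hp.two_le]
  obtain ⟨h1, e, np, he, hm, -⟩ := h.once x.1 hp hcN hsq x hx hox
  have key : ∀ y ∈ L, x.1 ∣ y.2 → y.1 = x.1 := fun y hy hd =>
    ((Nat.dvd_prime hp).1 ((h1 y hy).2 hd)).resolve_left (by have := h.two_le hy; omega)
  have hall : ∀ y ∈ L, x.1 ∣ y.1 → y.1 = x.1 := fun y hy hd => by
    by_cases hdo : x.1 ∣ y.2
    · exact key y hy hdo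
    · obtain ⟨z, hz, hz2, -⟩ := h.mul y hy x.1 hp hd hdo
      have hz1 := key z hz (hz2 ▸ dvd_mul_left _ _)
      have h3 := (h.basic z hz).2.1
      rw [hz1, hz2] at h3
      have h2 := Nat.le_of_dvd hp.pos h3
      have := (h.basic y hy).2.2.1
      nlinarith [hp.two_le]
  refine ⟨hox, hsq, hall, ?_⟩
  have hle : L.countP (fun y => y.1 == x.1) ≤ L.countP (fun y => y.2 == x.1) :=
    List.countP_mono_left fun y hy hyc => by
      have hy1 : y.1 = x.1 := by simpa using hyc
      obtain ⟨-, hyo, hy2, -⟩ := h.basic y hy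
      rw [hy1] at hyo
      simpa using ((Nat.dvd_prime hp).1 hyo).resolve_left (by omega)
  have := Nat.mul_le_mul hle he
  have := hp.two_le
  omega

theorem okPre_sound (h : Prof N L) {cs : List ℕ} {v : ℕ} {rest : List ℕ}
    (hL : L.map Prod.fst = cs.reverse ++ v :: rest) : okPre cs v = true := by
  have hv : v ∈ L.map Prod.fst := by rw [hL]; simp
  have hcs : ∀ a ∈ cs, a ∈ L.map Prod.fst := fun a ha => by rw [hL]; simp [ha]
  obtain ⟨x, hx, rfl⟩ := List.mem_map.1 hv
  have hcnt : cs.countP (· == x.1) + 1 ≤ L.countP (fun y => y.1 == x.1) := by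
    have e1 : L.countP (fun y => y.1 == x.1) = (L.map Prod.fst).countP (· == x.1) := by
      rw [List.countP_map]; rfl
    rw [e1, hL, List.countP_append, List.countP_reverse, List.countP_cons]
    simp
  simp only [okPre, Bool.and_eq_true, Bool.or_eq_true, List.all_eq_true, Bool.not_eq_true', bne_iff_ne, ne_eq,
    beq_iff_eq, Nat.ble_eq]
  refine ⟨fun a ha => ?_, ?_⟩
  · by_cases hpa : primeB a = true
    · by_cases hd : x.1 % a = 0
      · obtain ⟨y, hy, rfl⟩ := List.mem_map.1 (hcs a ha)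
        exact Or.inl (Or.inr ((h.prime_cn hy (primeB_sound hpa)).2.2.1 x hx (Nat.dvd_of_mod_eq_zero hd)))
      · exact Or.inl (Or.inl hd)
    · exact Or.inr (Bool.eq_false_iff.2 hpa)
  · by_cases hpv : primeB x.1 = true
    · obtain ⟨-, -, hall, hm⟩ := h.prime_cn hx (primeB_sound hpv)
      refine Or.inr ⟨fun a ha => ?_, by omega⟩
      by_cases hd : a % x.1 = 0
      · obtain ⟨y, hy, rfl⟩ := List.mem_map.1 (hcs a ha)
        exact Or.inr (hall y hy (Nat.dvd_of_mod_eq_zero hd))
      · exact Or.inl hd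
    · exact Or.inl (Bool.eq_false_iff.2 hpv)

theorem Prof.once' (h : Prof N L) {p : ℕ} (hp : p.Prime) (hd : p ∣ N) (hd2 : ¬ p * p ∣ N) {x : Cl}
    (hx : x ∈ L) (hx2 : x.2 = p) :
    let m := L.countP (fun y => y.2 == p)
    (p - 1) % m = 0 ∧ 2 ≤ (p - 1) / m ∧ N % (x.1 * ((p - 1) / m)) = 0 ∧
      N / (x.1 * ((p - 1) / m)) % p = 1 ∧ N / (x.1 * ((p - 1) / m)) ≠ 1 := by
  intro m
  obtain ⟨-, e, np, he, hm, hN, hnp, hnp1⟩ := h.once p hp hd hd2 x hx hx2
  have hm' : m * e = p - 1 := hm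
  have hm0 : 0 < m := List.countP_pos_iff.2 ⟨x, hx, by simpa using hx2⟩
  have he' : (p - 1) / m = e := by rw [← hm', Nat.mul_div_cancel_left _ hm0]
  have hpos : 0 < x.1 * e := Nat.mul_pos (h.c_pos hx) (by omega)
  rw [he', show N / (x.1 * e) = np by rw [← hN, Nat.mul_div_cancel_left _ hpos]]
  exact ⟨by rw [← hm']; exact Nat.mul_mod_right _ _, he, by rw [← hN]; exact Nat.mul_mod_right _ _, hnp, hnp1⟩

theorem chk_sound (h : Prof N L) (P : List ℕ) : chk N P L = true := by
  simp only [chk, Bool.and_eq_true, List.all_eq_true, Bool.or_eq_true, Bool.not_eq_true', bne_iff_ne, ne_eq,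
    beq_iff_eq, Nat.ble_eq]
  refine ⟨⟨⟨⟨fun x hx => ?_, fun p _ => ?_⟩, fun p _ => ?_⟩, h.inv_le⟩, fun p _ => ?_⟩
  · by_cases hx2 : x.2 = 2
    · exact Or.inr (Nat.mod_eq_zero_of_dvd (h.inv x hx hx2))
    · exact Or.inl hx2
  · by_cases hb : primeB p = true
    swap
    · exact Or.inl (Or.inl (Bool.eq_false_iff.2 hb))
    by_cases hd : N % p = 0
    swap
    · exact Or.inl (Or.inr hd)
    refine Or.inr ?_
    have hp := primeB_sound hb
    obtain ⟨x, hx, hx2, hxd⟩ := h.full p hp (Nat.dvd_of_mod_eq_zero hd)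
    simp only [chkPrime, Bool.and_eq_true, List.any_eq_true, List.mem_filter, beq_iff_eq, bne_iff_ne, ne_eq]
    refine ⟨⟨x, ⟨hx, hx2⟩, fun e => hxd (Nat.dvd_of_mod_eq_zero e)⟩, ?_⟩
    by_cases hsq : N % (p * p) = 0
    · rw [show (N % (p * p) != 0) = false by simpa using hsq, cond_false]
      simp only [List.all_eq_true, Bool.or_eq_true, bne_iff_ne, ne_eq, beq_iff_eq]
      intro y hy
      by_cases hy2 : ppow p 64 y.2 = y.2
      · obtain ⟨k, hk⟩ := ppow_eq p 64 y.2
        exact Or.inr (Nat.mod_eq_zero_of_dvd (h.psq p k hp (Nat.dvd_of_mod_eq_zero hsq) y hy (hy2 ▸ hk)))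
      · exact Or.inl hy2
    · rw [show (N % (p * p) != 0) = true by simpa using hsq, cond_true]
      simp only [List.all_eq_true, Bool.and_eq_true, List.mem_filter, beq_iff_eq, Nat.ble_eq, bne_iff_ne, ne_eq,
        Bool.or_eq_true, ← List.countP_eq_length_filter]
      rintro y ⟨hy, hy2⟩
      have hsq' : ¬ p * p ∣ N := fun hh => hsq (Nat.mod_eq_zero_of_dvd hh)
      have h1 := (h.once p hp (Nat.dvd_of_mod_eq_zero hd) hsq' y hy hy2).1
      obtain ⟨a1, a2, a3, a4, a5⟩ := h.once' hp (Nat.dvd_of_mod_eq_zero hd) hsq' hy hy2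
      refine ⟨⟨fun z hz => (h1 z hz.1).1 hz.2, ⟨⟨⟨a1, a2⟩, a3⟩, a4⟩, a5⟩, fun z hz => ?_⟩
      by_cases hz2 : z.2 % p = 0
      · exact Or.inr (Nat.mod_eq_zero_of_dvd ((h1 z hz).2 (Nat.dvd_of_mod_eq_zero hz2)))
      · exact Or.inl hz2
  · by_cases hb : primeB p = true
    swap
    · exact Or.inl (Bool.eq_false_iff.2 hb)
    refine Or.inr fun x hx => ?_
    simp only [chkPair, Bool.and_eq_true, Bool.or_eq_true, List.any_eq_true, bne_iff_ne, ne_eq, beq_iff_eq]
    constructor
    · by_cases h1 : x.2 % p = 0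
      · by_cases h2 : x.2 = p
        · exact Or.inl (Or.inr h2)
        · obtain ⟨y, hy, e1, e2⟩ := h.pow x hx p (primeB_sound hb) (Nat.dvd_of_mod_eq_zero h1) h2
          exact Or.inr ⟨y, hy, e1, Nat.mod_eq_zero_of_dvd e2⟩
      · exact Or.inl (Or.inl h1)
    · by_cases h1 : x.1 % p = 0
      · by_cases h2 : x.2 % p = 0
        · exact Or.inl (Or.inr h2)
        · obtain ⟨y, hy, e1, e2⟩ := h.mul x hx p (primeB_sound hb) (Nat.dvd_of_mod_eq_zero h1)
            fun hh => h2 (Nat.mod_eq_zero_of_dvd hh)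
          exact Or.inr ⟨y, hy, e1, Nat.mod_eq_zero_of_dvd e2⟩
      · exact Or.inl (Or.inl h1)
  · by_cases hb : primeB p = true
    swap
    · exact Or.inl (Bool.eq_false_iff.2 hb)
    refine Or.inr ?_
    suffices ∀ f q, chkFrob N L p f q = true from this _ _
    intro f
    induction f with
    | zero => intro q; rfl
    | succ f ih =>
      intro q
      simp only [chkFrob, Bool.and_eq_true, Bool.or_eq_true, bne_iff_ne, ne_eq, beq_iff_eq]
      by_cases hq : N % q = 0
      · exact Or.inr ⟨Nat.mod_eq_zero_of_dvd (h.frob q (Nat.dvd_of_mod_eq_zero hq)), ih _⟩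
      · exact Or.inl hq

theorem gate_sound (h : Prof N L) : gate N (L.map Prod.fst) = true := by
  simp only [gate, Bool.and_eq_true, List.all_eq_true, List.any_eq_true, List.mem_map, beq_iff_eq, bne_iff_ne,
    ne_eq, Nat.ble_eq, Nat.blt_eq, Bool.or_eq_true, Bool.not_eq_true', forall_exists_index, and_imp,
    forall_apply_eq_imp_iff₂, exists_exists_and_eq_and]
  refine ⟨⟨⟨Nat.mod_eq_zero_of_dvd h.four, fun x hx =>
    ⟨Nat.mod_eq_zero_of_dvd (h.basic x hx).1, (h.basic x hx).2.2.2⟩⟩, ?_⟩, fun x hx => ?_⟩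
  · obtain ⟨x, hx, hx2, hxd⟩ := h.full 2 Nat.prime_two ((dvd_mul_right 2 2).trans h.four)
    refine ⟨x, hx, fun e => hxd (Nat.dvd_of_mod_eq_zero e), ?_⟩
    have hI : N / x.1 ≤ invCount N L := by
      refine List.single_le_sum (fun a _ => Nat.zero_le a) _ (List.mem_map.2 ⟨x, hx, ?_⟩)
      simp [hx2]
    have hN := Nat.div_mul_cancel (h.basic x hx).1
    have h1 : (N / x.1) * (N / x.1) ≤ 9 * N :=
      (Nat.mul_le_mul (by omega) (by omega)).trans h.inv_le
    have h2 : N * N ≤ N * (9 * (x.1 * x.1)) := by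
      calc N * N = (N / x.1 * x.1) * (N / x.1 * x.1) := by rw [hN]
        _ = (N / x.1 * (N / x.1)) * (x.1 * x.1) := by ring
        _ ≤ (9 * N) * (x.1 * x.1) := Nat.mul_le_mul h1 le_rfl
        _ = N * (9 * (x.1 * x.1)) := by ring
    exact Nat.le_of_mul_le_mul_left h2 h.pos
  · by_cases hb : primeB x.1 = true
    · exact Or.inl fun e => (h.prime_cn hx (primeB_sound hb)).2.1 (Nat.dvd_of_mod_eq_zero e)
    · exact Or.inr (Bool.eq_false_iff.2 hb)

theorem gateP_sound (h : Prof N L) (p : ℕ) : gateP N (L.map Prod.fst) p = true := by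
  simp only [gateP, Bool.or_eq_true, Bool.not_eq_true', bne_iff_ne, ne_eq]
  by_cases hb : primeB p = true
  swap
  · exact Or.inl (Or.inl (Bool.eq_false_iff.2 hb))
  by_cases hd : N % p = 0
  swap
  · exact Or.inl (Or.inr hd)
  refine Or.inr ?_
  have hp := primeB_sound hb
  obtain ⟨x, hx, hx2, hxd⟩ := h.full p hp (Nat.dvd_of_mod_eq_zero hd)
  have hpc : x.1 % p = 0 := Nat.mod_eq_zero_of_dvd (hx2 ▸ (h.basic x hx).2.1)
  simp only [Bool.and_eq_true, Bool.or_eq_true, List.any_eq_true, List.mem_map, beq_iff_eq, bne_iff_ne, ne_eq,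
    exists_exists_and_eq_and, Nat.ble_eq]
  refine ⟨⟨x, hx, hpc, fun e => hxd (Nat.dvd_of_mod_eq_zero e)⟩, ?_⟩
  by_cases hsq : N % (p * p) = 0
  · exact Or.inl hsq
  have hsq' : ¬ p * p ∣ N := fun hh => hsq (Nat.mod_eq_zero_of_dvd hh)
  obtain ⟨a1, a2, a3, a4, a5⟩ := h.once' hp (Nat.dvd_of_mod_eq_zero hd) hsq' hx hx2
  refine Or.inr ⟨x, hx, hpc, L.countP (fun y => y.2 == p), List.mem_range'_1.2 ⟨?_, ?_⟩, ⟨⟨⟨a1, a2⟩, a3⟩, a4⟩, a5⟩
  · exact List.countP_pos_iff.2 ⟨x, hx, by simpa using hx2⟩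
  · have h1 := (h.once p hp (Nat.dvd_of_mod_eq_zero hd) hsq' x hx hx2).1
    have hle : L.countP (fun y => y.2 == p) ≤ L.countP (fun y => y.1 == x.1) :=
      List.countP_mono_left fun y hy hy2 => by simpa using (h1 y hy).1 (by simpa using hy2)
    have hc : (L.map Prod.fst).countP (· == x.1) = L.countP (fun y => y.1 == x.1) := by
      rw [List.countP_map]; rfl
    omega

theorem mem_options (h : Prof N L) (A : ℕ → Bool) (hA : ∀ x ∈ L, A x.2 = true) (P : List ℕ) {x : Cl}
    (hx : x ∈ L) :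
    x.2 ∈ (dvs x.1 (x.1 + 1) 1).filter fun d => A d && okOpt N P ((L.map Prod.fst).erase x.1) x.1 d := by
  obtain ⟨-, hoc, ho, -⟩ := h.basic x hx
  refine List.mem_filter.2 ⟨mem_dvs (h.c_pos hx) hoc ho, ?_⟩
  rw [hA x hx, Bool.true_and]
  have hother : ∀ y ∈ L, y ≠ x → y.1 ∈ (L.map Prod.fst).erase x.1 := fun y hy hne => by
    have hp := ((List.perm_cons_erase hx).map Prod.fst).erase x.1
    rw [List.map_cons, List.erase_cons_head] at hp
    exact hp.mem_iff.2 (List.mem_map.2 ⟨y, (List.mem_erase_of_ne hne).2 hy, rfl⟩)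
  simp only [okOpt, Bool.and_eq_true, Bool.or_eq_true, List.all_eq_true, List.any_eq_true, Bool.not_eq_true',
    bne_iff_ne, ne_eq, beq_iff_eq]
  refine ⟨?_, fun p _ => ?_⟩
  · by_cases hx2 : x.2 = 2
    · exact Or.inr (Nat.mod_eq_zero_of_dvd (h.inv x hx hx2))
    · exact Or.inl hx2
  by_cases hb : primeB p = true
  swap
  · exact Or.inl (Bool.eq_false_iff.2 hb)
  have hp := primeB_sound hb
  refine Or.inr ⟨⟨?_, ?_⟩, ?_⟩
  · by_cases h1 : x.2 % p = 0
    · by_cases h2 : x.2 = p
      · exact Or.inl (Or.inr h2)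
      · obtain ⟨y, hy, e1, e2⟩ := h.pow x hx p hp (Nat.dvd_of_mod_eq_zero h1) h2
        have hne : y ≠ x := fun e => by
          subst e
          have := Nat.div_lt_self (show 0 < y.2 by omega) hp.one_lt
          omega
        exact Or.inr ⟨y.1, hother y hy hne, Nat.mod_eq_zero_of_dvd e2,
          Nat.mod_eq_zero_of_dvd (e1 ▸ (h.basic y hy).2.1)⟩
    · exact Or.inl (Or.inl h1)
  · by_cases h1 : x.1 % p = 0
    · by_cases h2 : x.2 % p = 0
      · exact Or.inl (Or.inr h2)
      · obtain ⟨y, hy, e1, e2⟩ := h.mul x hx p hp (Nat.dvd_of_mod_eq_zero h1)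
          fun hh => h2 (Nat.mod_eq_zero_of_dvd hh)
        have hne : y ≠ x := fun e => by
          subst e
          have := Nat.mul_le_mul_left y.2 hp.two_le
          omega
        exact Or.inr ⟨y.1, hother y hy hne, Nat.mod_eq_zero_of_dvd e2,
          Nat.mod_eq_zero_of_dvd (e1 ▸ (h.basic y hy).2.1)⟩
    · exact Or.inl (Or.inl h1)
  · by_cases h1 : ppow p 64 x.2 = x.2
    · by_cases h2 : N % (p * p) = 0
      · obtain ⟨k, hk⟩ := ppow_eq p 64 x.2
        exact Or.inr (Nat.mod_eq_zero_of_dvd (h.psq p k hp (Nat.dvd_of_mod_eq_zero h2) x hx (h1 ▸ hk)))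
      · exact Or.inl (Or.inr h2)
    · exact Or.inl (Or.inl h1)

/-- The order of the classes. -/
def Sorted (L : List Cl) : Prop := L.Pairwise fun a b => a.1 < b.1 ∨ (a.1 = b.1 ∧ a.2 ≤ b.2)

theorem asg_sound (leaf : List Cl → Bool) : ∀ (O : List (ℕ × List ℕ)) (acc M : List Cl),
    asg leaf O acc = true → List.Forall₂ (fun x o => x.1 = o.1 ∧ x.2 ∈ o.2) M O → Sorted (acc.reverse ++ M) →
    leaf (acc.reverse ++ M) = true
  | [], acc, M, h, hM, _ => by
    cases hM
    simpa [asg] using h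
  | o :: O, acc, M, h, hM, hs => by
    rcases M with _ | ⟨x, M⟩
    · cases hM
    rw [List.forall₂_cons] at hM
    obtain ⟨⟨h1, h2⟩, hM⟩ := hM
    rw [asg, List.all_eq_true] at h
    have h3 := h x.2 h2
    rw [Bool.or_eq_true] at h3
    have h4 : asg leaf O ((o.1, x.2) :: acc) = true := h3.resolve_left fun hb => by
      rcases acc with _ | ⟨y, acc⟩
      · simp at hb
      · simp only [Bool.and_eq_true, beq_iff_eq, Nat.blt_eq] at hb
        have := (List.pairwise_append.1 hs).2.2 y (by simp) x (by simp)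
        rcases this with h5 | ⟨-, h5⟩ <;> omega
    have hxe : (o.1, x.2) = x := by rw [← h1]
    rw [hxe] at h4
    have := asg_sound leaf O (x :: acc) M h4 hM (by simpa using hs)
    simpa using this

theorem phase2_sound {A : ℕ → Bool} {exc : ℕ → List Cl → Bool} (h : Prof N L) (hs : Sorted L)
    (hA : ∀ x ∈ L, A x.2 = true) (hr : phase2 A exc N (L.map Prod.fst) = true) : exc N L = true := by
  rw [phase2, gate_sound h, Bool.not_true, Bool.false_or, forceL_eq,
    show (pfac 4000 2 N).all (gateP N (L.map Prod.fst)) = true from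
      List.all_eq_true.2 fun p _ => gateP_sound h p, Bool.not_true, Bool.false_or, forceLL_eq] at hr
  have := asg_sound _ _ [] L hr ?_ (by simpa using hs)
  · simpa [chk_sound h] using this
  · rw [options, List.map_map, List.forall₂_map_right_iff, List.forall₂_same]
    exact fun x hx => ⟨rfl, mem_options h A hA _ hx⟩

theorem loop_sound (f : ℕ → Bool) : ∀ n s, loop f n s = true → ∀ v, s ≤ v → v < s + n → f v = true
  | 0, s, _, v, h1, h2 => by omega
  | n + 1, s, h, v, h1, h2 => by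
    rw [loop, force_eq, Bool.and_eq_true] at h
    rcases eq_or_lt_of_le h1 with rfl | hlt
    · exact h.1
    · exact loop_sound f n (s + 1) h.2 v hlt (by omega)

theorem divLoop_sound (f : ℕ → Bool) (l : ℕ) : ∀ n s, divLoop f l n s = true → ∀ d, s ≤ d → d * d ≤ l →
    d ∣ l → f d = true ∧ f (l / d) = true
  | 0, s, h => by simp [divLoop] at h
  | n + 1, s, h => by
    intro d hd hdd hdl
    rw [divLoop, force_eq, blt_false ((Nat.mul_le_mul hd hd).trans hdd), cond_false, Bool.and_eq_true] at h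
    rcases eq_or_lt_of_le hd with rfl | hlt
    · have h1 := h.1
      simp only [Bool.or_eq_true, Bool.and_eq_true, bne_iff_ne, ne_eq, beq_iff_eq,
        Nat.mod_eq_zero_of_dvd hdl, not_true_eq_false, false_or] at h1
      refine ⟨h1.1, h1.2.elim (fun e => ?_) id⟩
      rw [e]
      exact h1.1
    · exact divLoop_sound f l n (s + 1) h.2 d hlt hdd hdl

theorem leaf_sound {exc : ℕ → List Cl → Bool} {T : ℕ} (h : Prof N L) (hs : Sorted L) (hT : T ≤ N)
    {cs : List ℕ} {C a l : ℕ} (hL : L.map Prod.fst = cs.reverse ++ [C]) (hl : l ∣ N)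
    (ha : a * (N / l) = 1 + N / C) (hr : divLoop (tryX exc T cs a l) l (l + 1) 1 = true) : exc N L = true := by
  obtain ⟨x, hx, hxC⟩ := List.mem_map.1 (show C ∈ L.map Prod.fst by rw [hL]; simp)
  subst hxC
  obtain ⟨hcN, -, -, hlt⟩ := h.basic x hx
  set X := N / x.1 with hX
  have hXN : X ∣ N := Nat.div_dvd_of_dvd hcN
  have hX0 : 0 < X := Nat.div_pos hlt.le (h.c_pos hx)
  have hl0 : 0 < l := Nat.pos_of_dvd_of_pos hl h.pos
  have hNl : l * (N / l) = N := Nat.mul_div_cancel' hl
  have ha0 : 0 < a := Nat.pos_of_ne_zero fun e => by rw [e, zero_mul] at ha; omega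
  have hXl : X ∣ l := by
    refine Nat.Coprime.dvd_of_dvd_mul_right ?_ (show X ∣ l * (N / l) by rw [hNl]; exact hXN)
    refine Nat.Coprime.coprime_dvd_right (dvd_mul_left (N / l) a) ?_
    rw [ha, add_comm]
    simp
  have hval : tryX exc T cs a l X = true := by
    by_cases hXX : X * X ≤ l
    · exact (divLoop_sound _ _ _ _ hr X hX0 hXX hXl).1
    · have hd : l / X * X = l := Nat.div_mul_cancel hXl
      have h1 : 1 ≤ l / X := Nat.div_pos (Nat.le_of_dvd hl0 hXl) hX0
      have h2 : l / X * (l / X) ≤ l := by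
        calc l / X * (l / X) ≤ l / X * X := Nat.mul_le_mul le_rfl (by nlinarith)
          _ = l := hd
      have h3 := (divLoop_sound _ _ _ _ hr (l / X) h1 h2 (Nat.div_dvd_of_dvd hXl)).2
      rwa [Nat.div_div_self hXl hl0.ne'] at h3
  have hk : (X + 1) / a = N / l := by
    rw [show X + 1 = a * (N / l) by omega, Nat.mul_div_cancel_left _ ha0]
  have hC : N / X = x.1 := Nat.div_div_self hcN h.pos.ne'
  have hmod : ((X + 1) % a != 0) = false := by
    rw [show X + 1 = a * (N / l) by omega]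
    simp
  rw [tryX, hmod, Bool.false_or, force_eq, hk, hNl,
    blt_false hT, Bool.false_or, force_eq, hC,
    ble_false hlt, okPre_sound h (rest := []) (by simpa using hL)] at hval
  have hhd : Nat.blt x.1 (cs.headD 0) = false := by
    rcases cs with _ | ⟨c, cs⟩
    · exact blt_false (Nat.zero_le _)
    · have hpw : (L.map Prod.fst).Pairwise (· ≤ ·) := List.pairwise_map.2 (hs.imp fun {a b} hab => by omega)
      rw [hL] at hpw
      have := (List.pairwise_append.1 hpw).2.2 c (by simp) x.1 (by simp)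
      exact blt_false (by simpa using this)
  rw [hhd] at hval
  simp only [Bool.not_true, Bool.false_or] at hval
  have hcs : (x.1 :: cs).reverse = L.map Prod.fst := by rw [hL]; simp
  rw [hcs] at hval
  exact phase2_sound h hs (fun _ _ => rfl) hval

theorem search_sound {exc : ℕ → List Cl → Bool} {T : ℕ} (h : Prof N L) (hs : Sorted L) (hT : T ≤ N) :
    ∀ (n : ℕ) (cs : List ℕ) (lo a l : ℕ) (rest : List ℕ), search exc T n cs lo a l = true →
    L.map Prod.fst = cs.reverse ++ rest → rest.length = n + 1 → (∀ c ∈ rest, lo ≤ c) → l ∣ N →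
    a * (N / l) = 1 + (rest.map (N / ·)).sum → exc N L = true
  | 0, cs, lo, a, l, rest, hr, hL, hlen, hlo, hl, ha => by
    obtain ⟨C, rfl⟩ := List.length_eq_one_iff.1 hlen
    rw [search] at hr
    exact leaf_sound h hs hT hL hl (by simpa using ha) hr
  | n + 1, cs, lo, a, l, rest, hr, hL, hlen, hlo, hl, ha => by
    rcases rest with _ | ⟨v, r⟩
    · simp at hlen
    have hvL : v ∈ L.map Prod.fst := by rw [hL]; simp
    obtain ⟨x, hx, rfl⟩ := List.mem_map.1 hvL
    have hpw : (L.map Prod.fst).Pairwise (· ≤ ·) := List.pairwise_map.2 (hs.imp fun {a b} hab => by omega)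
    rw [hL] at hpw
    have hr1 : ∀ c ∈ r, x.1 ≤ c := (List.pairwise_cons.1 (List.pairwise_append.1 hpw).2.1).1
    have hmem : ∀ c ∈ r, ∃ y ∈ L, y.1 = c := fun c hc => by
      have : c ∈ L.map Prod.fst := by rw [hL]; simp [hc]
      exact List.mem_map.1 this
    have hN : 0 < N := h.pos
    have hv0 : 0 < x.1 := h.c_pos hx
    obtain ⟨hvN, -, -, hvlt⟩ := h.basic x hx
    set S := (r.map (N / ·)).sum with hSdef
    have ha' : a * (N / l) = 1 + (N / x.1 + S) := by simpa using ha
    have hl0 : 0 < l := Nat.pos_of_dvd_of_pos hl hN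
    have hNl : l * (N / l) = N := Nat.mul_div_cancel' hl
    have hNv : x.1 * (N / x.1) = N := Nat.mul_div_cancel' hvN
    have hS : x.1 * S ≤ r.length * N := by
      have hh : S ≤ r.length * (N / x.1) := by
        have := List.sum_le_card_nsmul (r.map (N / ·)) (N / x.1) fun b hb => by
          obtain ⟨c, hc, rfl⟩ := List.mem_map.1 hb
          exact Nat.div_le_div_left (hr1 c hc) hv0
        simpa using this
      calc x.1 * S ≤ x.1 * (r.length * (N / x.1)) := Nat.mul_le_mul_left _ hh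
        _ = r.length * (x.1 * (N / x.1)) := by ring
        _ = r.length * N := by rw [hNv]
    have hlen' : r.length = n + 1 := by simpa using hlen
    rw [hlen'] at hS
    have hb1 : x.1 * a * (N / l) = x.1 + N + x.1 * S := by
      calc x.1 * a * (N / l) = x.1 * (a * (N / l)) := by ring
        _ = x.1 + x.1 * (N / x.1) + x.1 * S := by rw [ha']; ring
        _ = _ := by rw [hNv]
    have hb2 : x.1 * a * N = l * (x.1 + N + x.1 * S) := by
      conv_lhs => rw [← hNl]
      rw [← hb1]; ring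
    have hgt : l < x.1 * a := by
      by_contra hc
      have : x.1 * a * N ≤ l * N := Nat.mul_le_mul_right _ (not_lt.1 hc)
      have h2 : l * N < l * (x.1 + N + x.1 * S) := Nat.mul_lt_mul_of_pos_left (by omega) hl0
      rw [← hb2] at h2
      omega
    have ha0 : 0 < a := Nat.pos_of_ne_zero fun e => by simp [e] at hgt
    have hsum : x.1 + N + x.1 * S ≤ (n + 3) * N := by
      calc x.1 + N + x.1 * S ≤ N + N + (n + 1) * N := by omega
        _ = (n + 3) * N := by ring
    have hu1 : x.1 * a ≤ (n + 3) * l := by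
      refine Nat.le_of_mul_le_mul_right ?_ hN
      calc x.1 * a * N = l * (x.1 + N + x.1 * S) := hb2
        _ ≤ l * ((n + 3) * N) := Nat.mul_le_mul_left _ hsum
        _ = (n + 3) * l * N := by ring
    have hup : x.1 ≤ upper T n a l := by
      have h1 : x.1 ≤ (n + 3) * l / a := (Nat.le_div_iff_mul_le ha0).2 hu1
      rw [upper]
      by_cases hcase : l < a * T
      · rw [blt_true hcase, cond_true]
        refine le_min h1 ((Nat.le_div_iff_mul_le (by omega)).2 (Nat.le_of_mul_le_mul_right ?_ hN))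
        have h2 : x.1 * (a * T - l) * N + x.1 * l * N = T * (x.1 * a * N) := by
          have : x.1 * (a * T - l) + x.1 * l = x.1 * (a * T) := by
            rw [← Nat.mul_add, Nat.sub_add_cancel hcase.le]
          rw [← Nat.add_mul, this]; ring
        have h3 : T * (x.1 * a * N) ≤ T * (l * x.1) + (n + 2) * l * T * N := by
          rw [hb2]
          calc T * (l * (x.1 + N + x.1 * S)) ≤ T * (l * (x.1 + N + (n + 1) * N)) :=
                Nat.mul_le_mul_left _ (Nat.mul_le_mul_left _ (by omega))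
            _ = _ := by ring
        have h4 : T * (l * x.1) ≤ x.1 * l * N := by
          calc T * (l * x.1) = x.1 * l * T := by ring
            _ ≤ _ := Nat.mul_le_mul_left _ hT
        omega
      · rw [blt_false (not_lt.1 hcase), cond_false]
        exact h1
    have hlo1 : lo ≤ x.1 := hlo x.1 (by simp)
    rw [search, force_eq] at hr
    have hstep := loop_sound _ _ _ hr x.1 hlo1 (by omega)
    rw [ble_false hgt, okPre_sound h hL, force_eq, force_eq] at hstep
    simp only [Bool.not_true, Bool.false_or] at hstep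
    set l' := l * x.1 / Nat.gcd l x.1 with hl'def
    have hl'eq : l' = Nat.lcm l x.1 := rfl
    have hl'N : l' ∣ N := hl'eq ▸ Nat.lcm_dvd hl hvN
    refine search_sound h hs hT n (x.1 :: cs) x.1 _ l' r hstep (by rw [hL]; simp) hlen' hr1 hl'N ?_
    obtain ⟨u, hu⟩ := (hl'eq ▸ Nat.dvd_lcm_left l x.1 : l ∣ l')
    obtain ⟨w, hw⟩ := (hl'eq ▸ Nat.dvd_lcm_right l x.1 : x.1 ∣ l')
    obtain ⟨k, hk⟩ := hl'N
    have hk0 : 0 < l' := Nat.pos_of_dvd_of_pos ⟨k, hk⟩ hN
    have e1 : N / l = u * k := by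
      rw [hk, hu, mul_assoc, Nat.mul_div_cancel_left _ hl0]
    have e2 : N / x.1 = w * k := by
      rw [hk, hw, mul_assoc, Nat.mul_div_cancel_left _ hv0]
    have e3 : N / l' = k := by rw [hk, Nat.mul_div_cancel_left _ hk0]
    have e4 : l' / l = u := by rw [hu, Nat.mul_div_cancel_left _ hl0]
    have e5 : l' / x.1 = w := by rw [hw, Nat.mul_div_cancel_left _ hv0]
    rw [e1, e2] at ha'
    rw [e3, e4, e5, Nat.sub_mul, mul_assoc]
    omega

theorem go_sound (k : ℕ → List ℕ → ℕ → Bool) (r s : ℕ) : ∀ D : List ℕ, fixedN.go N k r s D = true →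
    D.Pairwise (· < ·) → (∀ c ∈ D, 0 < c) → ∀ (c0 : ℕ) (rest : List ℕ), (∀ c ∈ c0 :: rest, c ∈ D) →
    (∀ c ∈ rest, c0 ≤ c) → rest.length + 1 = r → s = N / c0 + (rest.map (N / ·)).sum →
    ∃ D', D'.Pairwise (· < ·) ∧ (∀ c ∈ D', 0 < c) ∧ (∀ c ∈ rest, c ∈ D') ∧ k c0 D' (s - N / c0) = true
  | [], _, _, _, c0, rest, hmem, _, _, _ => by simpa using hmem c0 (by simp)
  | c :: D, hr, hD, hpos, c0, rest, hmem, hle, hlen, hs => by
    rw [fixedN.go, force_eq] at hr
    have hc : 0 < c := hpos c (by simp)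
    have hD' := List.pairwise_cons.1 hD
    have hcle : c ≤ c0 := by
      rcases List.mem_cons.1 (hmem c0 (by simp)) with rfl | hh
      · rfl
      · exact (hD'.1 c0 hh).le
    have hsum : s ≤ r * (N / c) := by
      have h1 : (rest.map (N / ·)).sum ≤ (rest.map (N / ·)).length • (N / c) :=
        List.sum_le_card_nsmul _ _ fun b hb => by
          obtain ⟨e, he, rfl⟩ := List.mem_map.1 hb
          exact Nat.div_le_div_left (hcle.trans (hle e he)) hc
      rw [List.length_map, smul_eq_mul] at h1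
      have h2 : N / c0 ≤ N / c := Nat.div_le_div_left hcle hc
      rw [hs, ← hlen, Nat.add_mul, one_mul]
      omega
    rw [blt_false hsum, Bool.false_or, Bool.and_eq_true] at hr
    rcases eq_or_lt_of_le hcle with rfl | hlt
    · have h1 := hr.1
      rw [blt_false (show N / c ≤ s by omega), Bool.false_or, force_eq] at h1
      exact ⟨_, hD, hpos, fun e he => hmem e (by simp [he]), h1⟩
    · refine go_sound k r s D hr.2 hD'.2 (fun e he => hpos e (by simp [he])) c0 rest (fun e he => ?_) hle hlen hs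
      rcases List.mem_cons.1 (hmem e he) with rfl | hh
      · rcases List.mem_cons.1 he with e1 | e1
        · omega
        · have := hle e e1; omega
      · exact hh

theorem fixedN_sound {A : ℕ → Bool} {exc : ℕ → List Cl → Bool} (h : Prof N L) (hs : Sorted L)
    (hA : ∀ x ∈ L, A x.2 = true) : ∀ (r : ℕ) (cs D : List ℕ) (s : ℕ) (rest : List ℕ),
    fixedN A exc N r cs D s = true → L.map Prod.fst = cs.reverse ++ rest → rest.length = r →
    D.Pairwise (· < ·) → (∀ c ∈ D, 0 < c) → (∀ c ∈ rest, c ∈ D) → s = (rest.map (N / ·)).sum → exc N L = true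
  | 0, cs, D, s, rest, hr, hL, hlen, _, _, _, hsum => by
    rw [List.eq_nil_of_length_eq_zero hlen] at hL hsum
    subst hsum
    rw [fixedN] at hr
    simp only [List.map_nil, List.sum_nil, bne_self_eq_false, Bool.false_or] at hr
    rw [List.append_nil] at hL
    exact phase2_sound h hs hA (hL ▸ hr)
  | r + 1, cs, D, s, rest, hr, hL, hlen, hD, hpos, hmem, hsum => by
    rcases rest with _ | ⟨c0, rest⟩
    · simp at hlen
    rw [fixedN] at hr
    have hpw : (L.map Prod.fst).Pairwise (· ≤ ·) := List.pairwise_map.2 (hs.imp fun {a b} hab => by omega)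
    rw [hL] at hpw
    have hle : ∀ c ∈ rest, c0 ≤ c := (List.pairwise_cons.1 (List.pairwise_append.1 hpw).2.1).1
    obtain ⟨D', hD', hpos', hm', hk⟩ :=
      go_sound _ _ _ D hr hD hpos c0 rest hmem hle (by simpa using hlen) (by simpa using hsum)
    rw [okPre_sound h hL, Bool.not_true, Bool.false_or] at hk
    exact fixedN_sound h hs hA r (c0 :: cs) D' _ rest hk (by rw [hL]; simp) (by simpa using hlen) hD' hpos' hm'
      (by rw [hsum]; simp)

end Cfsg.Agent.Fus.Nine
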